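import Cfsg.Agent.Lib.Helper28.ON122760.Defs

set_option autoImplicit false
set_option linter.unusedVariables false
set_option Elab.async false

namespace Cfsg.Agent.Lib.Helper28.ON122760

open Cfsg.Spor.ON (Gen)
open Cfsg.Agent.Lib.Helper28.TC
open Cfsg.Agent.Lib.Helper28.TC2

theorem closedP_blk0 : allRange (guard nn closedP) 8 (0 * 2 ^ 8) = true := by decide +kernel
theorem closedP_blk1 : allRange (guard nn closedP) 8 (1 * 2 ^ 8) = true := by decide +kernel
theorem closedP_blk2 : allRange (guard nn closedP) 8 (2 * 2 ^ 8) = true := by decide +kernel
theorem closedP_blk3 : allRange (guard nn closedP) 8 (3 * 2 ^ 8) = true := by decide +kernel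
theorem closedP_blk4 : allRange (guard nn closedP) 8 (4 * 2 ^ 8) = true := by decide +kernel
theorem closedP_blk5 : allRange (guard nn closedP) 8 (5 * 2 ^ 8) = true := by decide +kernel
theorem closedP_blk6 : allRange (guard nn closedP) 8 (6 * 2 ^ 8) = true := by decide +kernel
theorem closedP_blk7 : allRange (guard nn closedP) 8 (7 * 2 ^ 8) = true := by decide +kernel
theorem closedP_blk8 : allRange (guard nn closedP) 8 (8 * 2 ^ 8) = true := by decide +kernel
theorem closedP_blk9 : allRange (guard nn closedP) 8 (9 * 2 ^ 8) = true := by decide +kernel
theorem closedP_blk10 : allRange (guard nn closedP) 8 (10 * 2 ^ 8) = true := by decide +kernel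
theorem closedP_blk11 : allRange (guard nn closedP) 8 (11 * 2 ^ 8) = true := by decide +kernel
theorem closedP_blk12 : allRange (guard nn closedP) 8 (12 * 2 ^ 8) = true := by decide +kernel
theorem closedP_blk13 : allRange (guard nn closedP) 8 (13 * 2 ^ 8) = true := by decide +kernel
theorem closedP_blk14 : allRange (guard nn closedP) 8 (14 * 2 ^ 8) = true := by decide +kernel
theorem closedP_blk15 : allRange (guard nn closedP) 8 (15 * 2 ^ 8) = true := by decide +kernel
theorem closedP_blk16 : allRange (guard nn closedP) 8 (16 * 2 ^ 8) = true := by decide +kernel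
theorem closedP_blk17 : allRange (guard nn closedP) 8 (17 * 2 ^ 8) = true := by decide +kernel
theorem closedP_blk18 : allRange (guard nn closedP) 8 (18 * 2 ^ 8) = true := by decide +kernel
theorem closedP_blk19 : allRange (guard nn closedP) 8 (19 * 2 ^ 8) = true := by decide +kernel
theorem closedP_blk20 : allRange (guard nn closedP) 8 (20 * 2 ^ 8) = true := by decide +kernel
theorem closedP_blk21 : allRange (guard nn closedP) 8 (21 * 2 ^ 8) = true := by decide +kernel
theorem closedP_blk22 : allRange (guard nn closedP) 8 (22 * 2 ^ 8) = true := by decide +kernel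
theorem closedP_blk23 : allRange (guard nn closedP) 8 (23 * 2 ^ 8) = true := by decide +kernel
theorem closedP_blk24 : allRange (guard nn closedP) 8 (24 * 2 ^ 8) = true := by decide +kernel
theorem closedP_blk25 : allRange (guard nn closedP) 8 (25 * 2 ^ 8) = true := by decide +kernel
theorem closedP_blk26 : allRange (guard nn closedP) 8 (26 * 2 ^ 8) = true := by decide +kernel
theorem closedP_blk27 : allRange (guard nn closedP) 8 (27 * 2 ^ 8) = true := by decide +kernel
theorem closedP_blk28 : allRange (guard nn closedP) 8 (28 * 2 ^ 8) = true := by decide +kernel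
theorem closedP_blk29 : allRange (guard nn closedP) 8 (29 * 2 ^ 8) = true := by decide +kernel
theorem closedP_blk30 : allRange (guard nn closedP) 8 (30 * 2 ^ 8) = true := by decide +kernel
theorem closedP_blk31 : allRange (guard nn closedP) 8 (31 * 2 ^ 8) = true := by decide +kernel
theorem closedP_blk32 : allRange (guard nn closedP) 8 (32 * 2 ^ 8) = true := by decide +kernel
theorem closedP_blk33 : allRange (guard nn closedP) 8 (33 * 2 ^ 8) = true := by decide +kernel
theorem closedP_blk34 : allRange (guard nn closedP) 8 (34 * 2 ^ 8) = true := by decide +kernel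
theorem closedP_blk35 : allRange (guard nn closedP) 8 (35 * 2 ^ 8) = true := by decide +kernel
theorem closedP_blk36 : allRange (guard nn closedP) 8 (36 * 2 ^ 8) = true := by decide +kernel
theorem closedP_blk37 : allRange (guard nn closedP) 8 (37 * 2 ^ 8) = true := by decide +kernel
theorem closedP_blk38 : allRange (guard nn closedP) 8 (38 * 2 ^ 8) = true := by decide +kernel
theorem closedP_blk39 : allRange (guard nn closedP) 8 (39 * 2 ^ 8) = true := by decide +kernel
theorem closedP_blk40 : allRange (guard nn closedP) 8 (40 * 2 ^ 8) = true := by decide +kernel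
theorem closedP_blk41 : allRange (guard nn closedP) 8 (41 * 2 ^ 8) = true := by decide +kernel
theorem closedP_blk42 : allRange (guard nn closedP) 8 (42 * 2 ^ 8) = true := by decide +kernel
theorem closedP_blk43 : allRange (guard nn closedP) 8 (43 * 2 ^ 8) = true := by decide +kernel
theorem closedP_blk44 : allRange (guard nn closedP) 8 (44 * 2 ^ 8) = true := by decide +kernel
theorem closedP_blk45 : allRange (guard nn closedP) 8 (45 * 2 ^ 8) = true := by decide +kernel
theorem closedP_blk46 : allRange (guard nn closedP) 8 (46 * 2 ^ 8) = true := by decide +kernel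
theorem closedP_blk47 : allRange (guard nn closedP) 8 (47 * 2 ^ 8) = true := by decide +kernel
theorem closedP_blk48 : allRange (guard nn closedP) 8 (48 * 2 ^ 8) = true := by decide +kernel
theorem closedP_blk49 : allRange (guard nn closedP) 8 (49 * 2 ^ 8) = true := by decide +kernel
theorem closedP_blk50 : allRange (guard nn closedP) 8 (50 * 2 ^ 8) = true := by decide +kernel
theorem closedP_blk51 : allRange (guard nn closedP) 8 (51 * 2 ^ 8) = true := by decide +kernel
theorem closedP_blk52 : allRange (guard nn closedP) 8 (52 * 2 ^ 8) = true := by decide +kernel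
theorem closedP_blk53 : allRange (guard nn closedP) 8 (53 * 2 ^ 8) = true := by decide +kernel
theorem closedP_blk54 : allRange (guard nn closedP) 8 (54 * 2 ^ 8) = true := by decide +kernel
theorem closedP_blk55 : allRange (guard nn closedP) 8 (55 * 2 ^ 8) = true := by decide +kernel
theorem closedP_blk56 : allRange (guard nn closedP) 8 (56 * 2 ^ 8) = true := by decide +kernel
theorem closedP_blk57 : allRange (guard nn closedP) 8 (57 * 2 ^ 8) = true := by decide +kernel
theorem closedP_blk58 : allRange (guard nn closedP) 8 (58 * 2 ^ 8) = true := by decide +kernel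
theorem closedP_blk59 : allRange (guard nn closedP) 8 (59 * 2 ^ 8) = true := by decide +kernel
theorem closedP_blk60 : allRange (guard nn closedP) 8 (60 * 2 ^ 8) = true := by decide +kernel
theorem closedP_blk61 : allRange (guard nn closedP) 8 (61 * 2 ^ 8) = true := by decide +kernel
theorem closedP_blk62 : allRange (guard nn closedP) 8 (62 * 2 ^ 8) = true := by decide +kernel
theorem closedP_blk63 : allRange (guard nn closedP) 8 (63 * 2 ^ 8) = true := by decide +kernel
theorem closedP_blk64 : allRange (guard nn closedP) 8 (64 * 2 ^ 8) = true := by decide +kernel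
theorem closedP_blk65 : allRange (guard nn closedP) 8 (65 * 2 ^ 8) = true := by decide +kernel
theorem closedP_blk66 : allRange (guard nn closedP) 8 (66 * 2 ^ 8) = true := by decide +kernel
theorem closedP_blk67 : allRange (guard nn closedP) 8 (67 * 2 ^ 8) = true := by decide +kernel
theorem closedP_blk68 : allRange (guard nn closedP) 8 (68 * 2 ^ 8) = true := by decide +kernel
theorem closedP_blk69 : allRange (guard nn closedP) 8 (69 * 2 ^ 8) = true := by decide +kernel
theorem closedP_blk70 : allRange (guard nn closedP) 8 (70 * 2 ^ 8) = true := by decide +kernel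
theorem closedP_blk71 : allRange (guard nn closedP) 8 (71 * 2 ^ 8) = true := by decide +kernel
theorem closedP_blk72 : allRange (guard nn closedP) 8 (72 * 2 ^ 8) = true := by decide +kernel
theorem closedP_blk73 : allRange (guard nn closedP) 8 (73 * 2 ^ 8) = true := by decide +kernel
theorem closedP_blk74 : allRange (guard nn closedP) 8 (74 * 2 ^ 8) = true := by decide +kernel
theorem closedP_blk75 : allRange (guard nn closedP) 8 (75 * 2 ^ 8) = true := by decide +kernel
theorem closedP_blk76 : allRange (guard nn closedP) 8 (76 * 2 ^ 8) = true := by decide +kernel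
theorem closedP_blk77 : allRange (guard nn closedP) 8 (77 * 2 ^ 8) = true := by decide +kernel
theorem closedP_blk78 : allRange (guard nn closedP) 8 (78 * 2 ^ 8) = true := by decide +kernel
theorem closedP_blk79 : allRange (guard nn closedP) 8 (79 * 2 ^ 8) = true := by decide +kernel
theorem closedP_blk80 : allRange (guard nn closedP) 8 (80 * 2 ^ 8) = true := by decide +kernel
theorem closedP_blk81 : allRange (guard nn closedP) 8 (81 * 2 ^ 8) = true := by decide +kernel
theorem closedP_blk82 : allRange (guard nn closedP) 8 (82 * 2 ^ 8) = true := by decide +kernel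
theorem closedP_blk83 : allRange (guard nn closedP) 8 (83 * 2 ^ 8) = true := by decide +kernel
theorem closedP_blk84 : allRange (guard nn closedP) 8 (84 * 2 ^ 8) = true := by decide +kernel
theorem closedP_blk85 : allRange (guard nn closedP) 8 (85 * 2 ^ 8) = true := by decide +kernel
theorem closedP_blk86 : allRange (guard nn closedP) 8 (86 * 2 ^ 8) = true := by decide +kernel
theorem closedP_blk87 : allRange (guard nn closedP) 8 (87 * 2 ^ 8) = true := by decide +kernel
theorem closedP_blk88 : allRange (guard nn closedP) 8 (88 * 2 ^ 8) = true := by decide +kernel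
theorem closedP_blk89 : allRange (guard nn closedP) 8 (89 * 2 ^ 8) = true := by decide +kernel
theorem closedP_blk90 : allRange (guard nn closedP) 8 (90 * 2 ^ 8) = true := by decide +kernel
theorem closedP_blk91 : allRange (guard nn closedP) 8 (91 * 2 ^ 8) = true := by decide +kernel
theorem closedP_blk92 : allRange (guard nn closedP) 8 (92 * 2 ^ 8) = true := by decide +kernel
theorem closedP_blk93 : allRange (guard nn closedP) 8 (93 * 2 ^ 8) = true := by decide +kernel
theorem closedP_blk94 : allRange (guard nn closedP) 8 (94 * 2 ^ 8) = true := by decide +kernel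
theorem closedP_blk95 : allRange (guard nn closedP) 8 (95 * 2 ^ 8) = true := by decide +kernel
theorem closedP_blk96 : allRange (guard nn closedP) 8 (96 * 2 ^ 8) = true := by decide +kernel
theorem closedP_blk97 : allRange (guard nn closedP) 8 (97 * 2 ^ 8) = true := by decide +kernel
theorem closedP_blk98 : allRange (guard nn closedP) 8 (98 * 2 ^ 8) = true := by decide +kernel
theorem closedP_blk99 : allRange (guard nn closedP) 8 (99 * 2 ^ 8) = true := by decide +kernel
theorem closedP_blk100 : allRange (guard nn closedP) 8 (100 * 2 ^ 8) = true := by decide +kernel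
theorem closedP_blk101 : allRange (guard nn closedP) 8 (101 * 2 ^ 8) = true := by decide +kernel
theorem closedP_blk102 : allRange (guard nn closedP) 8 (102 * 2 ^ 8) = true := by decide +kernel
theorem closedP_blk103 : allRange (guard nn closedP) 8 (103 * 2 ^ 8) = true := by decide +kernel
theorem closedP_blk104 : allRange (guard nn closedP) 8 (104 * 2 ^ 8) = true := by decide +kernel
theorem closedP_blk105 : allRange (guard nn closedP) 8 (105 * 2 ^ 8) = true := by decide +kernel
theorem closedP_blk106 : allRange (guard nn closedP) 8 (106 * 2 ^ 8) = true := by decide +kernel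
theorem closedP_blk107 : allRange (guard nn closedP) 8 (107 * 2 ^ 8) = true := by decide +kernel
theorem closedP_blk108 : allRange (guard nn closedP) 8 (108 * 2 ^ 8) = true := by decide +kernel
theorem closedP_blk109 : allRange (guard nn closedP) 8 (109 * 2 ^ 8) = true := by decide +kernel
theorem closedP_blk110 : allRange (guard nn closedP) 8 (110 * 2 ^ 8) = true := by decide +kernel
theorem closedP_blk111 : allRange (guard nn closedP) 8 (111 * 2 ^ 8) = true := by decide +kernel
theorem closedP_blk112 : allRange (guard nn closedP) 8 (112 * 2 ^ 8) = true := by decide +kernel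
theorem closedP_blk113 : allRange (guard nn closedP) 8 (113 * 2 ^ 8) = true := by decide +kernel
theorem closedP_blk114 : allRange (guard nn closedP) 8 (114 * 2 ^ 8) = true := by decide +kernel
theorem closedP_blk115 : allRange (guard nn closedP) 8 (115 * 2 ^ 8) = true := by decide +kernel
theorem closedP_blk116 : allRange (guard nn closedP) 8 (116 * 2 ^ 8) = true := by decide +kernel
theorem closedP_blk117 : allRange (guard nn closedP) 8 (117 * 2 ^ 8) = true := by decide +kernel
theorem closedP_blk118 : allRange (guard nn closedP) 8 (118 * 2 ^ 8) = true := by decide +kernel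
theorem closedP_blk119 : allRange (guard nn closedP) 8 (119 * 2 ^ 8) = true := by decide +kernel
theorem closedP_blk120 : allRange (guard nn closedP) 8 (120 * 2 ^ 8) = true := by decide +kernel
theorem closedP_blk121 : allRange (guard nn closedP) 8 (121 * 2 ^ 8) = true := by decide +kernel
theorem closedP_blk122 : allRange (guard nn closedP) 8 (122 * 2 ^ 8) = true := by decide +kernel
theorem closedP_blk123 : allRange (guard nn closedP) 8 (123 * 2 ^ 8) = true := by decide +kernel
theorem closedP_blk124 : allRange (guard nn closedP) 8 (124 * 2 ^ 8) = true := by decide +kernel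
theorem closedP_blk125 : allRange (guard nn closedP) 8 (125 * 2 ^ 8) = true := by decide +kernel
theorem closedP_blk126 : allRange (guard nn closedP) 8 (126 * 2 ^ 8) = true := by decide +kernel
theorem closedP_blk127 : allRange (guard nn closedP) 8 (127 * 2 ^ 8) = true := by decide +kernel
theorem closedP_f0 : ∀ k, 0 ≤ k → k < 128 → allRange (guard nn closedP) 8 (k * 2 ^ 8) = true := by
  intro k h1 h2
  interval_cases k
  · exact closedP_blk0
  · exact closedP_blk1
  · exact closedP_blk2
  · exact closedP_blk3
  · exact closedP_blk4
  · exact closedP_blk5
  · exact closedP_blk6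
  · exact closedP_blk7
  · exact closedP_blk8
  · exact closedP_blk9
  · exact closedP_blk10
  · exact closedP_blk11
  · exact closedP_blk12
  · exact closedP_blk13
  · exact closedP_blk14
  · exact closedP_blk15
  · exact closedP_blk16
  · exact closedP_blk17
  · exact closedP_blk18
  · exact closedP_blk19
  · exact closedP_blk20
  · exact closedP_blk21
  · exact closedP_blk22
  · exact closedP_blk23
  · exact closedP_blk24
  · exact closedP_blk25
  · exact closedP_blk26
  · exact closedP_blk27
  · exact closedP_blk28
  · exact closedP_blk29
  · exact closedP_blk30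
  · exact closedP_blk31
  · exact closedP_blk32
  · exact closedP_blk33
  · exact closedP_blk34
  · exact closedP_blk35
  · exact closedP_blk36
  · exact closedP_blk37
  · exact closedP_blk38
  · exact closedP_blk39
  · exact closedP_blk40
  · exact closedP_blk41
  · exact closedP_blk42
  · exact closedP_blk43
  · exact closedP_blk44
  · exact closedP_blk45
  · exact closedP_blk46
  · exact closedP_blk47
  · exact closedP_blk48
  · exact closedP_blk49
  · exact closedP_blk50
  · exact closedP_blk51
  · exact closedP_blk52
  · exact closedP_blk53
  · exact closedP_blk54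
  · exact closedP_blk55
  · exact closedP_blk56
  · exact closedP_blk57
  · exact closedP_blk58
  · exact closedP_blk59
  · exact closedP_blk60
  · exact closedP_blk61
  · exact closedP_blk62
  · exact closedP_blk63
  · exact closedP_blk64
  · exact closedP_blk65
  · exact closedP_blk66
  · exact closedP_blk67
  · exact closedP_blk68
  · exact closedP_blk69
  · exact closedP_blk70
  · exact closedP_blk71
  · exact closedP_blk72
  · exact closedP_blk73
  · exact closedP_blk74
  · exact closedP_blk75
  · exact closedP_blk76
  · exact closedP_blk77
  · exact closedP_blk78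
  · exact closedP_blk79
  · exact closedP_blk80
  · exact closedP_blk81
  · exact closedP_blk82
  · exact closedP_blk83
  · exact closedP_blk84
  · exact closedP_blk85
  · exact closedP_blk86
  · exact closedP_blk87
  · exact closedP_blk88
  · exact closedP_blk89
  · exact closedP_blk90
  · exact closedP_blk91
  · exact closedP_blk92
  · exact closedP_blk93
  · exact closedP_blk94
  · exact closedP_blk95
  · exact closedP_blk96
  · exact closedP_blk97
  · exact closedP_blk98
  · exact closedP_blk99
  · exact closedP_blk100
  · exact closedP_blk101
  · exact closedP_blk102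
  · exact closedP_blk103
  · exact closedP_blk104
  · exact closedP_blk105
  · exact closedP_blk106
  · exact closedP_blk107
  · exact closedP_blk108
  · exact closedP_blk109
  · exact closedP_blk110
  · exact closedP_blk111
  · exact closedP_blk112
  · exact closedP_blk113
  · exact closedP_blk114
  · exact closedP_blk115
  · exact closedP_blk116
  · exact closedP_blk117
  · exact closedP_blk118
  · exact closedP_blk119
  · exact closedP_blk120
  · exact closedP_blk121
  · exact closedP_blk122
  · exact closedP_blk123
  · exact closedP_blk124
  · exact closedP_blk125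
  · exact closedP_blk126
  · exact closedP_blk127

end Cfsg.Agent.Lib.Helper28.ON122760
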