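import Cfsg.Agent.Lib.Helper28.ON122760.Defs

set_option autoImplicit false
set_option linter.unusedVariables false
set_option Elab.async false

namespace Cfsg.Agent.Lib.Helper28.ON122760

open Cfsg.Spor.ON (Gen)
open Cfsg.Agent.Lib.Helper28.TC
open Cfsg.Agent.Lib.Helper28.TC2

theorem closedP_blk128 : allRange (guard nn closedP) 8 (128 * 2 ^ 8) = true := by decide +kernel
theorem closedP_blk129 : allRange (guard nn closedP) 8 (129 * 2 ^ 8) = true := by decide +kernel
theorem closedP_blk130 : allRange (guard nn closedP) 8 (130 * 2 ^ 8) = true := by decide +kernel
theorem closedP_blk131 : allRange (guard nn closedP) 8 (131 * 2 ^ 8) = true := by decide +kernel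
theorem closedP_blk132 : allRange (guard nn closedP) 8 (132 * 2 ^ 8) = true := by decide +kernel
theorem closedP_blk133 : allRange (guard nn closedP) 8 (133 * 2 ^ 8) = true := by decide +kernel
theorem closedP_blk134 : allRange (guard nn closedP) 8 (134 * 2 ^ 8) = true := by decide +kernel
theorem closedP_blk135 : allRange (guard nn closedP) 8 (135 * 2 ^ 8) = true := by decide +kernel
theorem closedP_blk136 : allRange (guard nn closedP) 8 (136 * 2 ^ 8) = true := by decide +kernel
theorem closedP_blk137 : allRange (guard nn closedP) 8 (137 * 2 ^ 8) = true := by decide +kernel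
theorem closedP_blk138 : allRange (guard nn closedP) 8 (138 * 2 ^ 8) = true := by decide +kernel
theorem closedP_blk139 : allRange (guard nn closedP) 8 (139 * 2 ^ 8) = true := by decide +kernel
theorem closedP_blk140 : allRange (guard nn closedP) 8 (140 * 2 ^ 8) = true := by decide +kernel
theorem closedP_blk141 : allRange (guard nn closedP) 8 (141 * 2 ^ 8) = true := by decide +kernel
theorem closedP_blk142 : allRange (guard nn closedP) 8 (142 * 2 ^ 8) = true := by decide +kernel
theorem closedP_blk143 : allRange (guard nn closedP) 8 (143 * 2 ^ 8) = true := by decide +kernel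
theorem closedP_blk144 : allRange (guard nn closedP) 8 (144 * 2 ^ 8) = true := by decide +kernel
theorem closedP_blk145 : allRange (guard nn closedP) 8 (145 * 2 ^ 8) = true := by decide +kernel
theorem closedP_blk146 : allRange (guard nn closedP) 8 (146 * 2 ^ 8) = true := by decide +kernel
theorem closedP_blk147 : allRange (guard nn closedP) 8 (147 * 2 ^ 8) = true := by decide +kernel
theorem closedP_blk148 : allRange (guard nn closedP) 8 (148 * 2 ^ 8) = true := by decide +kernel
theorem closedP_blk149 : allRange (guard nn closedP) 8 (149 * 2 ^ 8) = true := by decide +kernel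
theorem closedP_blk150 : allRange (guard nn closedP) 8 (150 * 2 ^ 8) = true := by decide +kernel
theorem closedP_blk151 : allRange (guard nn closedP) 8 (151 * 2 ^ 8) = true := by decide +kernel
theorem closedP_blk152 : allRange (guard nn closedP) 8 (152 * 2 ^ 8) = true := by decide +kernel
theorem closedP_blk153 : allRange (guard nn closedP) 8 (153 * 2 ^ 8) = true := by decide +kernel
theorem closedP_blk154 : allRange (guard nn closedP) 8 (154 * 2 ^ 8) = true := by decide +kernel
theorem closedP_blk155 : allRange (guard nn closedP) 8 (155 * 2 ^ 8) = true := by decide +kernel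
theorem closedP_blk156 : allRange (guard nn closedP) 8 (156 * 2 ^ 8) = true := by decide +kernel
theorem closedP_blk157 : allRange (guard nn closedP) 8 (157 * 2 ^ 8) = true := by decide +kernel
theorem closedP_blk158 : allRange (guard nn closedP) 8 (158 * 2 ^ 8) = true := by decide +kernel
theorem closedP_blk159 : allRange (guard nn closedP) 8 (159 * 2 ^ 8) = true := by decide +kernel
theorem closedP_blk160 : allRange (guard nn closedP) 8 (160 * 2 ^ 8) = true := by decide +kernel
theorem closedP_blk161 : allRange (guard nn closedP) 8 (161 * 2 ^ 8) = true := by decide +kernel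
theorem closedP_blk162 : allRange (guard nn closedP) 8 (162 * 2 ^ 8) = true := by decide +kernel
theorem closedP_blk163 : allRange (guard nn closedP) 8 (163 * 2 ^ 8) = true := by decide +kernel
theorem closedP_blk164 : allRange (guard nn closedP) 8 (164 * 2 ^ 8) = true := by decide +kernel
theorem closedP_blk165 : allRange (guard nn closedP) 8 (165 * 2 ^ 8) = true := by decide +kernel
theorem closedP_blk166 : allRange (guard nn closedP) 8 (166 * 2 ^ 8) = true := by decide +kernel
theorem closedP_blk167 : allRange (guard nn closedP) 8 (167 * 2 ^ 8) = true := by decide +kernel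
theorem closedP_blk168 : allRange (guard nn closedP) 8 (168 * 2 ^ 8) = true := by decide +kernel
theorem closedP_blk169 : allRange (guard nn closedP) 8 (169 * 2 ^ 8) = true := by decide +kernel
theorem closedP_blk170 : allRange (guard nn closedP) 8 (170 * 2 ^ 8) = true := by decide +kernel
theorem closedP_blk171 : allRange (guard nn closedP) 8 (171 * 2 ^ 8) = true := by decide +kernel
theorem closedP_blk172 : allRange (guard nn closedP) 8 (172 * 2 ^ 8) = true := by decide +kernel
theorem closedP_blk173 : allRange (guard nn closedP) 8 (173 * 2 ^ 8) = true := by decide +kernel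
theorem closedP_blk174 : allRange (guard nn closedP) 8 (174 * 2 ^ 8) = true := by decide +kernel
theorem closedP_blk175 : allRange (guard nn closedP) 8 (175 * 2 ^ 8) = true := by decide +kernel
theorem closedP_blk176 : allRange (guard nn closedP) 8 (176 * 2 ^ 8) = true := by decide +kernel
theorem closedP_blk177 : allRange (guard nn closedP) 8 (177 * 2 ^ 8) = true := by decide +kernel
theorem closedP_blk178 : allRange (guard nn closedP) 8 (178 * 2 ^ 8) = true := by decide +kernel
theorem closedP_blk179 : allRange (guard nn closedP) 8 (179 * 2 ^ 8) = true := by decide +kernel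
theorem closedP_blk180 : allRange (guard nn closedP) 8 (180 * 2 ^ 8) = true := by decide +kernel
theorem closedP_blk181 : allRange (guard nn closedP) 8 (181 * 2 ^ 8) = true := by decide +kernel
theorem closedP_blk182 : allRange (guard nn closedP) 8 (182 * 2 ^ 8) = true := by decide +kernel
theorem closedP_blk183 : allRange (guard nn closedP) 8 (183 * 2 ^ 8) = true := by decide +kernel
theorem closedP_blk184 : allRange (guard nn closedP) 8 (184 * 2 ^ 8) = true := by decide +kernel
theorem closedP_blk185 : allRange (guard nn closedP) 8 (185 * 2 ^ 8) = true := by decide +kernel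
theorem closedP_blk186 : allRange (guard nn closedP) 8 (186 * 2 ^ 8) = true := by decide +kernel
theorem closedP_blk187 : allRange (guard nn closedP) 8 (187 * 2 ^ 8) = true := by decide +kernel
theorem closedP_blk188 : allRange (guard nn closedP) 8 (188 * 2 ^ 8) = true := by decide +kernel
theorem closedP_blk189 : allRange (guard nn closedP) 8 (189 * 2 ^ 8) = true := by decide +kernel
theorem closedP_blk190 : allRange (guard nn closedP) 8 (190 * 2 ^ 8) = true := by decide +kernel
theorem closedP_blk191 : allRange (guard nn closedP) 8 (191 * 2 ^ 8) = true := by decide +kernel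
theorem closedP_blk192 : allRange (guard nn closedP) 8 (192 * 2 ^ 8) = true := by decide +kernel
theorem closedP_blk193 : allRange (guard nn closedP) 8 (193 * 2 ^ 8) = true := by decide +kernel
theorem closedP_blk194 : allRange (guard nn closedP) 8 (194 * 2 ^ 8) = true := by decide +kernel
theorem closedP_blk195 : allRange (guard nn closedP) 8 (195 * 2 ^ 8) = true := by decide +kernel
theorem closedP_blk196 : allRange (guard nn closedP) 8 (196 * 2 ^ 8) = true := by decide +kernel
theorem closedP_blk197 : allRange (guard nn closedP) 8 (197 * 2 ^ 8) = true := by decide +kernel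
theorem closedP_blk198 : allRange (guard nn closedP) 8 (198 * 2 ^ 8) = true := by decide +kernel
theorem closedP_blk199 : allRange (guard nn closedP) 8 (199 * 2 ^ 8) = true := by decide +kernel
theorem closedP_blk200 : allRange (guard nn closedP) 8 (200 * 2 ^ 8) = true := by decide +kernel
theorem closedP_blk201 : allRange (guard nn closedP) 8 (201 * 2 ^ 8) = true := by decide +kernel
theorem closedP_blk202 : allRange (guard nn closedP) 8 (202 * 2 ^ 8) = true := by decide +kernel
theorem closedP_blk203 : allRange (guard nn closedP) 8 (203 * 2 ^ 8) = true := by decide +kernel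
theorem closedP_blk204 : allRange (guard nn closedP) 8 (204 * 2 ^ 8) = true := by decide +kernel
theorem closedP_blk205 : allRange (guard nn closedP) 8 (205 * 2 ^ 8) = true := by decide +kernel
theorem closedP_blk206 : allRange (guard nn closedP) 8 (206 * 2 ^ 8) = true := by decide +kernel
theorem closedP_blk207 : allRange (guard nn closedP) 8 (207 * 2 ^ 8) = true := by decide +kernel
theorem closedP_blk208 : allRange (guard nn closedP) 8 (208 * 2 ^ 8) = true := by decide +kernel
theorem closedP_blk209 : allRange (guard nn closedP) 8 (209 * 2 ^ 8) = true := by decide +kernel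
theorem closedP_blk210 : allRange (guard nn closedP) 8 (210 * 2 ^ 8) = true := by decide +kernel
theorem closedP_blk211 : allRange (guard nn closedP) 8 (211 * 2 ^ 8) = true := by decide +kernel
theorem closedP_blk212 : allRange (guard nn closedP) 8 (212 * 2 ^ 8) = true := by decide +kernel
theorem closedP_blk213 : allRange (guard nn closedP) 8 (213 * 2 ^ 8) = true := by decide +kernel
theorem closedP_blk214 : allRange (guard nn closedP) 8 (214 * 2 ^ 8) = true := by decide +kernel
theorem closedP_blk215 : allRange (guard nn closedP) 8 (215 * 2 ^ 8) = true := by decide +kernel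
theorem closedP_blk216 : allRange (guard nn closedP) 8 (216 * 2 ^ 8) = true := by decide +kernel
theorem closedP_blk217 : allRange (guard nn closedP) 8 (217 * 2 ^ 8) = true := by decide +kernel
theorem closedP_blk218 : allRange (guard nn closedP) 8 (218 * 2 ^ 8) = true := by decide +kernel
theorem closedP_blk219 : allRange (guard nn closedP) 8 (219 * 2 ^ 8) = true := by decide +kernel
theorem closedP_blk220 : allRange (guard nn closedP) 8 (220 * 2 ^ 8) = true := by decide +kernel
theorem closedP_blk221 : allRange (guard nn closedP) 8 (221 * 2 ^ 8) = true := by decide +kernel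
theorem closedP_blk222 : allRange (guard nn closedP) 8 (222 * 2 ^ 8) = true := by decide +kernel
theorem closedP_blk223 : allRange (guard nn closedP) 8 (223 * 2 ^ 8) = true := by decide +kernel
theorem closedP_blk224 : allRange (guard nn closedP) 8 (224 * 2 ^ 8) = true := by decide +kernel
theorem closedP_blk225 : allRange (guard nn closedP) 8 (225 * 2 ^ 8) = true := by decide +kernel
theorem closedP_blk226 : allRange (guard nn closedP) 8 (226 * 2 ^ 8) = true := by decide +kernel
theorem closedP_blk227 : allRange (guard nn closedP) 8 (227 * 2 ^ 8) = true := by decide +kernel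
theorem closedP_blk228 : allRange (guard nn closedP) 8 (228 * 2 ^ 8) = true := by decide +kernel
theorem closedP_blk229 : allRange (guard nn closedP) 8 (229 * 2 ^ 8) = true := by decide +kernel
theorem closedP_blk230 : allRange (guard nn closedP) 8 (230 * 2 ^ 8) = true := by decide +kernel
theorem closedP_blk231 : allRange (guard nn closedP) 8 (231 * 2 ^ 8) = true := by decide +kernel
theorem closedP_blk232 : allRange (guard nn closedP) 8 (232 * 2 ^ 8) = true := by decide +kernel
theorem closedP_blk233 : allRange (guard nn closedP) 8 (233 * 2 ^ 8) = true := by decide +kernel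
theorem closedP_blk234 : allRange (guard nn closedP) 8 (234 * 2 ^ 8) = true := by decide +kernel
theorem closedP_blk235 : allRange (guard nn closedP) 8 (235 * 2 ^ 8) = true := by decide +kernel
theorem closedP_blk236 : allRange (guard nn closedP) 8 (236 * 2 ^ 8) = true := by decide +kernel
theorem closedP_blk237 : allRange (guard nn closedP) 8 (237 * 2 ^ 8) = true := by decide +kernel
theorem closedP_blk238 : allRange (guard nn closedP) 8 (238 * 2 ^ 8) = true := by decide +kernel
theorem closedP_blk239 : allRange (guard nn closedP) 8 (239 * 2 ^ 8) = true := by decide +kernel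
theorem closedP_blk240 : allRange (guard nn closedP) 8 (240 * 2 ^ 8) = true := by decide +kernel
theorem closedP_blk241 : allRange (guard nn closedP) 8 (241 * 2 ^ 8) = true := by decide +kernel
theorem closedP_blk242 : allRange (guard nn closedP) 8 (242 * 2 ^ 8) = true := by decide +kernel
theorem closedP_blk243 : allRange (guard nn closedP) 8 (243 * 2 ^ 8) = true := by decide +kernel
theorem closedP_blk244 : allRange (guard nn closedP) 8 (244 * 2 ^ 8) = true := by decide +kernel
theorem closedP_blk245 : allRange (guard nn closedP) 8 (245 * 2 ^ 8) = true := by decide +kernel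
theorem closedP_blk246 : allRange (guard nn closedP) 8 (246 * 2 ^ 8) = true := by decide +kernel
theorem closedP_blk247 : allRange (guard nn closedP) 8 (247 * 2 ^ 8) = true := by decide +kernel
theorem closedP_blk248 : allRange (guard nn closedP) 8 (248 * 2 ^ 8) = true := by decide +kernel
theorem closedP_blk249 : allRange (guard nn closedP) 8 (249 * 2 ^ 8) = true := by decide +kernel
theorem closedP_blk250 : allRange (guard nn closedP) 8 (250 * 2 ^ 8) = true := by decide +kernel
theorem closedP_blk251 : allRange (guard nn closedP) 8 (251 * 2 ^ 8) = true := by decide +kernel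
theorem closedP_blk252 : allRange (guard nn closedP) 8 (252 * 2 ^ 8) = true := by decide +kernel
theorem closedP_blk253 : allRange (guard nn closedP) 8 (253 * 2 ^ 8) = true := by decide +kernel
theorem closedP_blk254 : allRange (guard nn closedP) 8 (254 * 2 ^ 8) = true := by decide +kernel
theorem closedP_blk255 : allRange (guard nn closedP) 8 (255 * 2 ^ 8) = true := by decide +kernel
theorem closedP_f1 : ∀ k, 128 ≤ k → k < 256 → allRange (guard nn closedP) 8 (k * 2 ^ 8) = true := by
  intro k h1 h2
  interval_cases k
  · exact closedP_blk128
  · exact closedP_blk129
  · exact closedP_blk130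
  · exact closedP_blk131
  · exact closedP_blk132
  · exact closedP_blk133
  · exact closedP_blk134
  · exact closedP_blk135
  · exact closedP_blk136
  · exact closedP_blk137
  · exact closedP_blk138
  · exact closedP_blk139
  · exact closedP_blk140
  · exact closedP_blk141
  · exact closedP_blk142
  · exact closedP_blk143
  · exact closedP_blk144
  · exact closedP_blk145
  · exact closedP_blk146
  · exact closedP_blk147
  · exact closedP_blk148
  · exact closedP_blk149
  · exact closedP_blk150
  · exact closedP_blk151
  · exact closedP_blk152
  · exact closedP_blk153
  · exact closedP_blk154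
  · exact closedP_blk155
  · exact closedP_blk156
  · exact closedP_blk157
  · exact closedP_blk158
  · exact closedP_blk159
  · exact closedP_blk160
  · exact closedP_blk161
  · exact closedP_blk162
  · exact closedP_blk163
  · exact closedP_blk164
  · exact closedP_blk165
  · exact closedP_blk166
  · exact closedP_blk167
  · exact closedP_blk168
  · exact closedP_blk169
  · exact closedP_blk170
  · exact closedP_blk171
  · exact closedP_blk172
  · exact closedP_blk173
  · exact closedP_blk174
  · exact closedP_blk175
  · exact closedP_blk176
  · exact closedP_blk177
  · exact closedP_blk178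
  · exact closedP_blk179
  · exact closedP_blk180
  · exact closedP_blk181
  · exact closedP_blk182
  · exact closedP_blk183
  · exact closedP_blk184
  · exact closedP_blk185
  · exact closedP_blk186
  · exact closedP_blk187
  · exact closedP_blk188
  · exact closedP_blk189
  · exact closedP_blk190
  · exact closedP_blk191
  · exact closedP_blk192
  · exact closedP_blk193
  · exact closedP_blk194
  · exact closedP_blk195
  · exact closedP_blk196
  · exact closedP_blk197
  · exact closedP_blk198
  · exact closedP_blk199
  · exact closedP_blk200
  · exact closedP_blk201
  · exact closedP_blk202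
  · exact closedP_blk203
  · exact closedP_blk204
  · exact closedP_blk205
  · exact closedP_blk206
  · exact closedP_blk207
  · exact closedP_blk208
  · exact closedP_blk209
  · exact closedP_blk210
  · exact closedP_blk211
  · exact closedP_blk212
  · exact closedP_blk213
  · exact closedP_blk214
  · exact closedP_blk215
  · exact closedP_blk216
  · exact closedP_blk217
  · exact closedP_blk218
  · exact closedP_blk219
  · exact closedP_blk220
  · exact closedP_blk221
  · exact closedP_blk222
  · exact closedP_blk223
  · exact closedP_blk224
  · exact closedP_blk225
  · exact closedP_blk226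
  · exact closedP_blk227
  · exact closedP_blk228
  · exact closedP_blk229
  · exact closedP_blk230
  · exact closedP_blk231
  · exact closedP_blk232
  · exact closedP_blk233
  · exact closedP_blk234
  · exact closedP_blk235
  · exact closedP_blk236
  · exact closedP_blk237
  · exact closedP_blk238
  · exact closedP_blk239
  · exact closedP_blk240
  · exact closedP_blk241
  · exact closedP_blk242
  · exact closedP_blk243
  · exact closedP_blk244
  · exact closedP_blk245
  · exact closedP_blk246
  · exact closedP_blk247
  · exact closedP_blk248
  · exact closedP_blk249
  · exact closedP_blk250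
  · exact closedP_blk251
  · exact closedP_blk252
  · exact closedP_blk253
  · exact closedP_blk254
  · exact closedP_blk255

end Cfsg.Agent.Lib.Helper28.ON122760
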