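import Cfsg.Agent.Lib.Helper28.ON122760.Defs

set_option autoImplicit false
set_option linter.unusedVariables false
set_option Elab.async false

namespace Cfsg.Agent.Lib.Helper28.ON122760

open Cfsg.Spor.ON (Gen)
open Cfsg.Agent.Lib.Helper28.TC
open Cfsg.Agent.Lib.Helper28.TC2

theorem closedP_blk256 : allRange (guard nn closedP) 8 (256 * 2 ^ 8) = true := by decide +kernel
theorem closedP_blk257 : allRange (guard nn closedP) 8 (257 * 2 ^ 8) = true := by decide +kernel
theorem closedP_blk258 : allRange (guard nn closedP) 8 (258 * 2 ^ 8) = true := by decide +kernel
theorem closedP_blk259 : allRange (guard nn closedP) 8 (259 * 2 ^ 8) = true := by decide +kernel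
theorem closedP_blk260 : allRange (guard nn closedP) 8 (260 * 2 ^ 8) = true := by decide +kernel
theorem closedP_blk261 : allRange (guard nn closedP) 8 (261 * 2 ^ 8) = true := by decide +kernel
theorem closedP_blk262 : allRange (guard nn closedP) 8 (262 * 2 ^ 8) = true := by decide +kernel
theorem closedP_blk263 : allRange (guard nn closedP) 8 (263 * 2 ^ 8) = true := by decide +kernel
theorem closedP_blk264 : allRange (guard nn closedP) 8 (264 * 2 ^ 8) = true := by decide +kernel
theorem closedP_blk265 : allRange (guard nn closedP) 8 (265 * 2 ^ 8) = true := by decide +kernel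
theorem closedP_blk266 : allRange (guard nn closedP) 8 (266 * 2 ^ 8) = true := by decide +kernel
theorem closedP_blk267 : allRange (guard nn closedP) 8 (267 * 2 ^ 8) = true := by decide +kernel
theorem closedP_blk268 : allRange (guard nn closedP) 8 (268 * 2 ^ 8) = true := by decide +kernel
theorem closedP_blk269 : allRange (guard nn closedP) 8 (269 * 2 ^ 8) = true := by decide +kernel
theorem closedP_blk270 : allRange (guard nn closedP) 8 (270 * 2 ^ 8) = true := by decide +kernel
theorem closedP_blk271 : allRange (guard nn closedP) 8 (271 * 2 ^ 8) = true := by decide +kernel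
theorem closedP_blk272 : allRange (guard nn closedP) 8 (272 * 2 ^ 8) = true := by decide +kernel
theorem closedP_blk273 : allRange (guard nn closedP) 8 (273 * 2 ^ 8) = true := by decide +kernel
theorem closedP_blk274 : allRange (guard nn closedP) 8 (274 * 2 ^ 8) = true := by decide +kernel
theorem closedP_blk275 : allRange (guard nn closedP) 8 (275 * 2 ^ 8) = true := by decide +kernel
theorem closedP_blk276 : allRange (guard nn closedP) 8 (276 * 2 ^ 8) = true := by decide +kernel
theorem closedP_blk277 : allRange (guard nn closedP) 8 (277 * 2 ^ 8) = true := by decide +kernel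
theorem closedP_blk278 : allRange (guard nn closedP) 8 (278 * 2 ^ 8) = true := by decide +kernel
theorem closedP_blk279 : allRange (guard nn closedP) 8 (279 * 2 ^ 8) = true := by decide +kernel
theorem closedP_blk280 : allRange (guard nn closedP) 8 (280 * 2 ^ 8) = true := by decide +kernel
theorem closedP_blk281 : allRange (guard nn closedP) 8 (281 * 2 ^ 8) = true := by decide +kernel
theorem closedP_blk282 : allRange (guard nn closedP) 8 (282 * 2 ^ 8) = true := by decide +kernel
theorem closedP_blk283 : allRange (guard nn closedP) 8 (283 * 2 ^ 8) = true := by decide +kernel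
theorem closedP_blk284 : allRange (guard nn closedP) 8 (284 * 2 ^ 8) = true := by decide +kernel
theorem closedP_blk285 : allRange (guard nn closedP) 8 (285 * 2 ^ 8) = true := by decide +kernel
theorem closedP_blk286 : allRange (guard nn closedP) 8 (286 * 2 ^ 8) = true := by decide +kernel
theorem closedP_blk287 : allRange (guard nn closedP) 8 (287 * 2 ^ 8) = true := by decide +kernel
theorem closedP_blk288 : allRange (guard nn closedP) 8 (288 * 2 ^ 8) = true := by decide +kernel
theorem closedP_blk289 : allRange (guard nn closedP) 8 (289 * 2 ^ 8) = true := by decide +kernel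
theorem closedP_blk290 : allRange (guard nn closedP) 8 (290 * 2 ^ 8) = true := by decide +kernel
theorem closedP_blk291 : allRange (guard nn closedP) 8 (291 * 2 ^ 8) = true := by decide +kernel
theorem closedP_blk292 : allRange (guard nn closedP) 8 (292 * 2 ^ 8) = true := by decide +kernel
theorem closedP_blk293 : allRange (guard nn closedP) 8 (293 * 2 ^ 8) = true := by decide +kernel
theorem closedP_blk294 : allRange (guard nn closedP) 8 (294 * 2 ^ 8) = true := by decide +kernel
theorem closedP_blk295 : allRange (guard nn closedP) 8 (295 * 2 ^ 8) = true := by decide +kernel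
theorem closedP_blk296 : allRange (guard nn closedP) 8 (296 * 2 ^ 8) = true := by decide +kernel
theorem closedP_blk297 : allRange (guard nn closedP) 8 (297 * 2 ^ 8) = true := by decide +kernel
theorem closedP_blk298 : allRange (guard nn closedP) 8 (298 * 2 ^ 8) = true := by decide +kernel
theorem closedP_blk299 : allRange (guard nn closedP) 8 (299 * 2 ^ 8) = true := by decide +kernel
theorem closedP_blk300 : allRange (guard nn closedP) 8 (300 * 2 ^ 8) = true := by decide +kernel
theorem closedP_blk301 : allRange (guard nn closedP) 8 (301 * 2 ^ 8) = true := by decide +kernel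
theorem closedP_blk302 : allRange (guard nn closedP) 8 (302 * 2 ^ 8) = true := by decide +kernel
theorem closedP_blk303 : allRange (guard nn closedP) 8 (303 * 2 ^ 8) = true := by decide +kernel
theorem closedP_blk304 : allRange (guard nn closedP) 8 (304 * 2 ^ 8) = true := by decide +kernel
theorem closedP_blk305 : allRange (guard nn closedP) 8 (305 * 2 ^ 8) = true := by decide +kernel
theorem closedP_blk306 : allRange (guard nn closedP) 8 (306 * 2 ^ 8) = true := by decide +kernel
theorem closedP_blk307 : allRange (guard nn closedP) 8 (307 * 2 ^ 8) = true := by decide +kernel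
theorem closedP_blk308 : allRange (guard nn closedP) 8 (308 * 2 ^ 8) = true := by decide +kernel
theorem closedP_blk309 : allRange (guard nn closedP) 8 (309 * 2 ^ 8) = true := by decide +kernel
theorem closedP_blk310 : allRange (guard nn closedP) 8 (310 * 2 ^ 8) = true := by decide +kernel
theorem closedP_blk311 : allRange (guard nn closedP) 8 (311 * 2 ^ 8) = true := by decide +kernel
theorem closedP_blk312 : allRange (guard nn closedP) 8 (312 * 2 ^ 8) = true := by decide +kernel
theorem closedP_blk313 : allRange (guard nn closedP) 8 (313 * 2 ^ 8) = true := by decide +kernel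
theorem closedP_blk314 : allRange (guard nn closedP) 8 (314 * 2 ^ 8) = true := by decide +kernel
theorem closedP_blk315 : allRange (guard nn closedP) 8 (315 * 2 ^ 8) = true := by decide +kernel
theorem closedP_blk316 : allRange (guard nn closedP) 8 (316 * 2 ^ 8) = true := by decide +kernel
theorem closedP_blk317 : allRange (guard nn closedP) 8 (317 * 2 ^ 8) = true := by decide +kernel
theorem closedP_blk318 : allRange (guard nn closedP) 8 (318 * 2 ^ 8) = true := by decide +kernel
theorem closedP_blk319 : allRange (guard nn closedP) 8 (319 * 2 ^ 8) = true := by decide +kernel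
theorem closedP_blk320 : allRange (guard nn closedP) 8 (320 * 2 ^ 8) = true := by decide +kernel
theorem closedP_blk321 : allRange (guard nn closedP) 8 (321 * 2 ^ 8) = true := by decide +kernel
theorem closedP_blk322 : allRange (guard nn closedP) 8 (322 * 2 ^ 8) = true := by decide +kernel
theorem closedP_blk323 : allRange (guard nn closedP) 8 (323 * 2 ^ 8) = true := by decide +kernel
theorem closedP_blk324 : allRange (guard nn closedP) 8 (324 * 2 ^ 8) = true := by decide +kernel
theorem closedP_blk325 : allRange (guard nn closedP) 8 (325 * 2 ^ 8) = true := by decide +kernel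
theorem closedP_blk326 : allRange (guard nn closedP) 8 (326 * 2 ^ 8) = true := by decide +kernel
theorem closedP_blk327 : allRange (guard nn closedP) 8 (327 * 2 ^ 8) = true := by decide +kernel
theorem closedP_blk328 : allRange (guard nn closedP) 8 (328 * 2 ^ 8) = true := by decide +kernel
theorem closedP_blk329 : allRange (guard nn closedP) 8 (329 * 2 ^ 8) = true := by decide +kernel
theorem closedP_blk330 : allRange (guard nn closedP) 8 (330 * 2 ^ 8) = true := by decide +kernel
theorem closedP_blk331 : allRange (guard nn closedP) 8 (331 * 2 ^ 8) = true := by decide +kernel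
theorem closedP_blk332 : allRange (guard nn closedP) 8 (332 * 2 ^ 8) = true := by decide +kernel
theorem closedP_blk333 : allRange (guard nn closedP) 8 (333 * 2 ^ 8) = true := by decide +kernel
theorem closedP_blk334 : allRange (guard nn closedP) 8 (334 * 2 ^ 8) = true := by decide +kernel
theorem closedP_blk335 : allRange (guard nn closedP) 8 (335 * 2 ^ 8) = true := by decide +kernel
theorem closedP_blk336 : allRange (guard nn closedP) 8 (336 * 2 ^ 8) = true := by decide +kernel
theorem closedP_blk337 : allRange (guard nn closedP) 8 (337 * 2 ^ 8) = true := by decide +kernel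
theorem closedP_blk338 : allRange (guard nn closedP) 8 (338 * 2 ^ 8) = true := by decide +kernel
theorem closedP_blk339 : allRange (guard nn closedP) 8 (339 * 2 ^ 8) = true := by decide +kernel
theorem closedP_blk340 : allRange (guard nn closedP) 8 (340 * 2 ^ 8) = true := by decide +kernel
theorem closedP_blk341 : allRange (guard nn closedP) 8 (341 * 2 ^ 8) = true := by decide +kernel
theorem closedP_blk342 : allRange (guard nn closedP) 8 (342 * 2 ^ 8) = true := by decide +kernel
theorem closedP_blk343 : allRange (guard nn closedP) 8 (343 * 2 ^ 8) = true := by decide +kernel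
theorem closedP_blk344 : allRange (guard nn closedP) 8 (344 * 2 ^ 8) = true := by decide +kernel
theorem closedP_blk345 : allRange (guard nn closedP) 8 (345 * 2 ^ 8) = true := by decide +kernel
theorem closedP_blk346 : allRange (guard nn closedP) 8 (346 * 2 ^ 8) = true := by decide +kernel
theorem closedP_blk347 : allRange (guard nn closedP) 8 (347 * 2 ^ 8) = true := by decide +kernel
theorem closedP_blk348 : allRange (guard nn closedP) 8 (348 * 2 ^ 8) = true := by decide +kernel
theorem closedP_blk349 : allRange (guard nn closedP) 8 (349 * 2 ^ 8) = true := by decide +kernel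
theorem closedP_blk350 : allRange (guard nn closedP) 8 (350 * 2 ^ 8) = true := by decide +kernel
theorem closedP_blk351 : allRange (guard nn closedP) 8 (351 * 2 ^ 8) = true := by decide +kernel
theorem closedP_blk352 : allRange (guard nn closedP) 8 (352 * 2 ^ 8) = true := by decide +kernel
theorem closedP_blk353 : allRange (guard nn closedP) 8 (353 * 2 ^ 8) = true := by decide +kernel
theorem closedP_blk354 : allRange (guard nn closedP) 8 (354 * 2 ^ 8) = true := by decide +kernel
theorem closedP_blk355 : allRange (guard nn closedP) 8 (355 * 2 ^ 8) = true := by decide +kernel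
theorem closedP_blk356 : allRange (guard nn closedP) 8 (356 * 2 ^ 8) = true := by decide +kernel
theorem closedP_blk357 : allRange (guard nn closedP) 8 (357 * 2 ^ 8) = true := by decide +kernel
theorem closedP_blk358 : allRange (guard nn closedP) 8 (358 * 2 ^ 8) = true := by decide +kernel
theorem closedP_blk359 : allRange (guard nn closedP) 8 (359 * 2 ^ 8) = true := by decide +kernel
theorem closedP_blk360 : allRange (guard nn closedP) 8 (360 * 2 ^ 8) = true := by decide +kernel
theorem closedP_blk361 : allRange (guard nn closedP) 8 (361 * 2 ^ 8) = true := by decide +kernel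
theorem closedP_blk362 : allRange (guard nn closedP) 8 (362 * 2 ^ 8) = true := by decide +kernel
theorem closedP_blk363 : allRange (guard nn closedP) 8 (363 * 2 ^ 8) = true := by decide +kernel
theorem closedP_blk364 : allRange (guard nn closedP) 8 (364 * 2 ^ 8) = true := by decide +kernel
theorem closedP_blk365 : allRange (guard nn closedP) 8 (365 * 2 ^ 8) = true := by decide +kernel
theorem closedP_blk366 : allRange (guard nn closedP) 8 (366 * 2 ^ 8) = true := by decide +kernel
theorem closedP_blk367 : allRange (guard nn closedP) 8 (367 * 2 ^ 8) = true := by decide +kernel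
theorem closedP_blk368 : allRange (guard nn closedP) 8 (368 * 2 ^ 8) = true := by decide +kernel
theorem closedP_blk369 : allRange (guard nn closedP) 8 (369 * 2 ^ 8) = true := by decide +kernel
theorem closedP_blk370 : allRange (guard nn closedP) 8 (370 * 2 ^ 8) = true := by decide +kernel
theorem closedP_blk371 : allRange (guard nn closedP) 8 (371 * 2 ^ 8) = true := by decide +kernel
theorem closedP_blk372 : allRange (guard nn closedP) 8 (372 * 2 ^ 8) = true := by decide +kernel
theorem closedP_blk373 : allRange (guard nn closedP) 8 (373 * 2 ^ 8) = true := by decide +kernel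
theorem closedP_blk374 : allRange (guard nn closedP) 8 (374 * 2 ^ 8) = true := by decide +kernel
theorem closedP_blk375 : allRange (guard nn closedP) 8 (375 * 2 ^ 8) = true := by decide +kernel
theorem closedP_blk376 : allRange (guard nn closedP) 8 (376 * 2 ^ 8) = true := by decide +kernel
theorem closedP_blk377 : allRange (guard nn closedP) 8 (377 * 2 ^ 8) = true := by decide +kernel
theorem closedP_blk378 : allRange (guard nn closedP) 8 (378 * 2 ^ 8) = true := by decide +kernel
theorem closedP_blk379 : allRange (guard nn closedP) 8 (379 * 2 ^ 8) = true := by decide +kernel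
theorem closedP_blk380 : allRange (guard nn closedP) 8 (380 * 2 ^ 8) = true := by decide +kernel
theorem closedP_blk381 : allRange (guard nn closedP) 8 (381 * 2 ^ 8) = true := by decide +kernel
theorem closedP_blk382 : allRange (guard nn closedP) 8 (382 * 2 ^ 8) = true := by decide +kernel
theorem closedP_blk383 : allRange (guard nn closedP) 8 (383 * 2 ^ 8) = true := by decide +kernel
theorem closedP_f2 : ∀ k, 256 ≤ k → k < 384 → allRange (guard nn closedP) 8 (k * 2 ^ 8) = true := by
  intro k h1 h2
  interval_cases k
  · exact closedP_blk256
  · exact closedP_blk257
  · exact closedP_blk258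
  · exact closedP_blk259
  · exact closedP_blk260
  · exact closedP_blk261
  · exact closedP_blk262
  · exact closedP_blk263
  · exact closedP_blk264
  · exact closedP_blk265
  · exact closedP_blk266
  · exact closedP_blk267
  · exact closedP_blk268
  · exact closedP_blk269
  · exact closedP_blk270
  · exact closedP_blk271
  · exact closedP_blk272
  · exact closedP_blk273
  · exact closedP_blk274
  · exact closedP_blk275
  · exact closedP_blk276
  · exact closedP_blk277
  · exact closedP_blk278
  · exact closedP_blk279
  · exact closedP_blk280
  · exact closedP_blk281
  · exact closedP_blk282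
  · exact closedP_blk283
  · exact closedP_blk284
  · exact closedP_blk285
  · exact closedP_blk286
  · exact closedP_blk287
  · exact closedP_blk288
  · exact closedP_blk289
  · exact closedP_blk290
  · exact closedP_blk291
  · exact closedP_blk292
  · exact closedP_blk293
  · exact closedP_blk294
  · exact closedP_blk295
  · exact closedP_blk296
  · exact closedP_blk297
  · exact closedP_blk298
  · exact closedP_blk299
  · exact closedP_blk300
  · exact closedP_blk301
  · exact closedP_blk302
  · exact closedP_blk303
  · exact closedP_blk304
  · exact closedP_blk305
  · exact closedP_blk306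
  · exact closedP_blk307
  · exact closedP_blk308
  · exact closedP_blk309
  · exact closedP_blk310
  · exact closedP_blk311
  · exact closedP_blk312
  · exact closedP_blk313
  · exact closedP_blk314
  · exact closedP_blk315
  · exact closedP_blk316
  · exact closedP_blk317
  · exact closedP_blk318
  · exact closedP_blk319
  · exact closedP_blk320
  · exact closedP_blk321
  · exact closedP_blk322
  · exact closedP_blk323
  · exact closedP_blk324
  · exact closedP_blk325
  · exact closedP_blk326
  · exact closedP_blk327
  · exact closedP_blk328
  · exact closedP_blk329
  · exact closedP_blk330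
  · exact closedP_blk331
  · exact closedP_blk332
  · exact closedP_blk333
  · exact closedP_blk334
  · exact closedP_blk335
  · exact closedP_blk336
  · exact closedP_blk337
  · exact closedP_blk338
  · exact closedP_blk339
  · exact closedP_blk340
  · exact closedP_blk341
  · exact closedP_blk342
  · exact closedP_blk343
  · exact closedP_blk344
  · exact closedP_blk345
  · exact closedP_blk346
  · exact closedP_blk347
  · exact closedP_blk348
  · exact closedP_blk349
  · exact closedP_blk350
  · exact closedP_blk351
  · exact closedP_blk352
  · exact closedP_blk353
  · exact closedP_blk354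
  · exact closedP_blk355
  · exact closedP_blk356
  · exact closedP_blk357
  · exact closedP_blk358
  · exact closedP_blk359
  · exact closedP_blk360
  · exact closedP_blk361
  · exact closedP_blk362
  · exact closedP_blk363
  · exact closedP_blk364
  · exact closedP_blk365
  · exact closedP_blk366
  · exact closedP_blk367
  · exact closedP_blk368
  · exact closedP_blk369
  · exact closedP_blk370
  · exact closedP_blk371
  · exact closedP_blk372
  · exact closedP_blk373
  · exact closedP_blk374
  · exact closedP_blk375
  · exact closedP_blk376
  · exact closedP_blk377
  · exact closedP_blk378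
  · exact closedP_blk379
  · exact closedP_blk380
  · exact closedP_blk381
  · exact closedP_blk382
  · exact closedP_blk383

end Cfsg.Agent.Lib.Helper28.ON122760
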