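import Cfsg.Agent.Lib.Helper28.ON122760.Defs

set_option autoImplicit false
set_option linter.unusedVariables false
set_option Elab.async false

namespace Cfsg.Agent.Lib.Helper28.ON122760

open Cfsg.Spor.ON (Gen)
open Cfsg.Agent.Lib.Helper28.TC
open Cfsg.Agent.Lib.Helper28.TC2

theorem factP_blk896 : allRange factP 7 (896 * 2 ^ 7) = true := by decide +kernel
theorem factP_blk897 : allRange factP 7 (897 * 2 ^ 7) = true := by decide +kernel
theorem factP_blk898 : allRange factP 7 (898 * 2 ^ 7) = true := by decide +kernel
theorem factP_blk899 : allRange factP 7 (899 * 2 ^ 7) = true := by decide +kernel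
theorem factP_blk900 : allRange factP 7 (900 * 2 ^ 7) = true := by decide +kernel
theorem factP_blk901 : allRange factP 7 (901 * 2 ^ 7) = true := by decide +kernel
theorem factP_blk902 : allRange factP 7 (902 * 2 ^ 7) = true := by decide +kernel
theorem factP_blk903 : allRange factP 7 (903 * 2 ^ 7) = true := by decide +kernel
theorem factP_blk904 : allRange factP 7 (904 * 2 ^ 7) = true := by decide +kernel
theorem factP_blk905 : allRange factP 7 (905 * 2 ^ 7) = true := by decide +kernel
theorem factP_blk906 : allRange factP 7 (906 * 2 ^ 7) = true := by decide +kernel
theorem factP_blk907 : allRange factP 7 (907 * 2 ^ 7) = true := by decide +kernel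
theorem factP_blk908 : allRange factP 7 (908 * 2 ^ 7) = true := by decide +kernel
theorem factP_blk909 : allRange factP 7 (909 * 2 ^ 7) = true := by decide +kernel
theorem factP_blk910 : allRange factP 7 (910 * 2 ^ 7) = true := by decide +kernel
theorem factP_blk911 : allRange factP 7 (911 * 2 ^ 7) = true := by decide +kernel
theorem factP_blk912 : allRange factP 7 (912 * 2 ^ 7) = true := by decide +kernel
theorem factP_blk913 : allRange factP 7 (913 * 2 ^ 7) = true := by decide +kernel
theorem factP_blk914 : allRange factP 7 (914 * 2 ^ 7) = true := by decide +kernel
theorem factP_blk915 : allRange factP 7 (915 * 2 ^ 7) = true := by decide +kernel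
theorem factP_blk916 : allRange factP 7 (916 * 2 ^ 7) = true := by decide +kernel
theorem factP_blk917 : allRange factP 7 (917 * 2 ^ 7) = true := by decide +kernel
theorem factP_blk918 : allRange factP 7 (918 * 2 ^ 7) = true := by decide +kernel
theorem factP_blk919 : allRange factP 7 (919 * 2 ^ 7) = true := by decide +kernel
theorem factP_blk920 : allRange factP 7 (920 * 2 ^ 7) = true := by decide +kernel
theorem factP_blk921 : allRange factP 7 (921 * 2 ^ 7) = true := by decide +kernel
theorem factP_blk922 : allRange factP 7 (922 * 2 ^ 7) = true := by decide +kernel
theorem factP_blk923 : allRange factP 7 (923 * 2 ^ 7) = true := by decide +kernel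
theorem factP_blk924 : allRange factP 7 (924 * 2 ^ 7) = true := by decide +kernel
theorem factP_blk925 : allRange factP 7 (925 * 2 ^ 7) = true := by decide +kernel
theorem factP_blk926 : allRange factP 7 (926 * 2 ^ 7) = true := by decide +kernel
theorem factP_blk927 : allRange factP 7 (927 * 2 ^ 7) = true := by decide +kernel
theorem factP_blk928 : allRange factP 7 (928 * 2 ^ 7) = true := by decide +kernel
theorem factP_blk929 : allRange factP 7 (929 * 2 ^ 7) = true := by decide +kernel
theorem factP_blk930 : allRange factP 7 (930 * 2 ^ 7) = true := by decide +kernel
theorem factP_blk931 : allRange factP 7 (931 * 2 ^ 7) = true := by decide +kernel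
theorem factP_blk932 : allRange factP 7 (932 * 2 ^ 7) = true := by decide +kernel
theorem factP_blk933 : allRange factP 7 (933 * 2 ^ 7) = true := by decide +kernel
theorem factP_blk934 : allRange factP 7 (934 * 2 ^ 7) = true := by decide +kernel
theorem factP_blk935 : allRange factP 7 (935 * 2 ^ 7) = true := by decide +kernel
theorem factP_blk936 : allRange factP 7 (936 * 2 ^ 7) = true := by decide +kernel
theorem factP_blk937 : allRange factP 7 (937 * 2 ^ 7) = true := by decide +kernel
theorem factP_blk938 : allRange factP 7 (938 * 2 ^ 7) = true := by decide +kernel
theorem factP_blk939 : allRange factP 7 (939 * 2 ^ 7) = true := by decide +kernel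
theorem factP_blk940 : allRange factP 7 (940 * 2 ^ 7) = true := by decide +kernel
theorem factP_blk941 : allRange factP 7 (941 * 2 ^ 7) = true := by decide +kernel
theorem factP_blk942 : allRange factP 7 (942 * 2 ^ 7) = true := by decide +kernel
theorem factP_blk943 : allRange factP 7 (943 * 2 ^ 7) = true := by decide +kernel
theorem factP_blk944 : allRange factP 7 (944 * 2 ^ 7) = true := by decide +kernel
theorem factP_blk945 : allRange factP 7 (945 * 2 ^ 7) = true := by decide +kernel
theorem factP_blk946 : allRange factP 7 (946 * 2 ^ 7) = true := by decide +kernel
theorem factP_blk947 : allRange factP 7 (947 * 2 ^ 7) = true := by decide +kernel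
theorem factP_blk948 : allRange factP 7 (948 * 2 ^ 7) = true := by decide +kernel
theorem factP_blk949 : allRange factP 7 (949 * 2 ^ 7) = true := by decide +kernel
theorem factP_blk950 : allRange factP 7 (950 * 2 ^ 7) = true := by decide +kernel
theorem factP_blk951 : allRange factP 7 (951 * 2 ^ 7) = true := by decide +kernel
theorem factP_blk952 : allRange factP 7 (952 * 2 ^ 7) = true := by decide +kernel
theorem factP_blk953 : allRange factP 7 (953 * 2 ^ 7) = true := by decide +kernel
theorem factP_blk954 : allRange factP 7 (954 * 2 ^ 7) = true := by decide +kernel
theorem factP_blk955 : allRange factP 7 (955 * 2 ^ 7) = true := by decide +kernel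
theorem factP_blk956 : allRange factP 7 (956 * 2 ^ 7) = true := by decide +kernel
theorem factP_blk957 : allRange factP 7 (957 * 2 ^ 7) = true := by decide +kernel
theorem factP_blk958 : allRange factP 7 (958 * 2 ^ 7) = true := by decide +kernel
theorem factP_blk959 : allRange factP 7 (959 * 2 ^ 7) = true := by decide +kernel
theorem factP_f14 : ∀ k, 896 ≤ k → k < 960 → allRange factP 7 (k * 2 ^ 7) = true := by
  intro k h1 h2
  interval_cases k
  · exact factP_blk896
  · exact factP_blk897
  · exact factP_blk898
  · exact factP_blk899
  · exact factP_blk900
  · exact factP_blk901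
  · exact factP_blk902
  · exact factP_blk903
  · exact factP_blk904
  · exact factP_blk905
  · exact factP_blk906
  · exact factP_blk907
  · exact factP_blk908
  · exact factP_blk909
  · exact factP_blk910
  · exact factP_blk911
  · exact factP_blk912
  · exact factP_blk913
  · exact factP_blk914
  · exact factP_blk915
  · exact factP_blk916
  · exact factP_blk917
  · exact factP_blk918
  · exact factP_blk919
  · exact factP_blk920
  · exact factP_blk921
  · exact factP_blk922
  · exact factP_blk923
  · exact factP_blk924
  · exact factP_blk925
  · exact factP_blk926
  · exact factP_blk927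
  · exact factP_blk928
  · exact factP_blk929
  · exact factP_blk930
  · exact factP_blk931
  · exact factP_blk932
  · exact factP_blk933
  · exact factP_blk934
  · exact factP_blk935
  · exact factP_blk936
  · exact factP_blk937
  · exact factP_blk938
  · exact factP_blk939
  · exact factP_blk940
  · exact factP_blk941
  · exact factP_blk942
  · exact factP_blk943
  · exact factP_blk944
  · exact factP_blk945
  · exact factP_blk946
  · exact factP_blk947
  · exact factP_blk948
  · exact factP_blk949
  · exact factP_blk950
  · exact factP_blk951
  · exact factP_blk952
  · exact factP_blk953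
  · exact factP_blk954
  · exact factP_blk955
  · exact factP_blk956
  · exact factP_blk957
  · exact factP_blk958
  · exact factP_blk959

end Cfsg.Agent.Lib.Helper28.ON122760
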