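import Cfsg.Agent.Lib.Helper28.ON122760.Defs

set_option autoImplicit false
set_option linter.unusedVariables false
set_option Elab.async false

namespace Cfsg.Agent.Lib.Helper28.ON122760

open Cfsg.Spor.ON (Gen)
open Cfsg.Agent.Lib.Helper28.TC
open Cfsg.Agent.Lib.Helper28.TC2

theorem factP_blk960 : allRange factP 7 (960 * 2 ^ 7) = true := by decide +kernel
theorem factP_blk961 : allRange factP 7 (961 * 2 ^ 7) = true := by decide +kernel
theorem factP_blk962 : allRange factP 7 (962 * 2 ^ 7) = true := by decide +kernel
theorem factP_blk963 : allRange factP 7 (963 * 2 ^ 7) = true := by decide +kernel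
theorem factP_blk964 : allRange factP 7 (964 * 2 ^ 7) = true := by decide +kernel
theorem factP_blk965 : allRange factP 7 (965 * 2 ^ 7) = true := by decide +kernel
theorem factP_blk966 : allRange factP 7 (966 * 2 ^ 7) = true := by decide +kernel
theorem factP_blk967 : allRange factP 7 (967 * 2 ^ 7) = true := by decide +kernel
theorem factP_blk968 : allRange factP 7 (968 * 2 ^ 7) = true := by decide +kernel
theorem factP_blk969 : allRange factP 7 (969 * 2 ^ 7) = true := by decide +kernel
theorem factP_blk970 : allRange factP 7 (970 * 2 ^ 7) = true := by decide +kernel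
theorem factP_blk971 : allRange factP 7 (971 * 2 ^ 7) = true := by decide +kernel
theorem factP_blk972 : allRange factP 7 (972 * 2 ^ 7) = true := by decide +kernel
theorem factP_blk973 : allRange factP 7 (973 * 2 ^ 7) = true := by decide +kernel
theorem factP_blk974 : allRange factP 7 (974 * 2 ^ 7) = true := by decide +kernel
theorem factP_blk975 : allRange factP 7 (975 * 2 ^ 7) = true := by decide +kernel
theorem factP_blk976 : allRange factP 7 (976 * 2 ^ 7) = true := by decide +kernel
theorem factP_blk977 : allRange factP 7 (977 * 2 ^ 7) = true := by decide +kernel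
theorem factP_blk978 : allRange factP 7 (978 * 2 ^ 7) = true := by decide +kernel
theorem factP_blk979 : allRange factP 7 (979 * 2 ^ 7) = true := by decide +kernel
theorem factP_blk980 : allRange factP 7 (980 * 2 ^ 7) = true := by decide +kernel
theorem factP_blk981 : allRange factP 7 (981 * 2 ^ 7) = true := by decide +kernel
theorem factP_blk982 : allRange factP 7 (982 * 2 ^ 7) = true := by decide +kernel
theorem factP_blk983 : allRange factP 7 (983 * 2 ^ 7) = true := by decide +kernel
theorem factP_blk984 : allRange factP 7 (984 * 2 ^ 7) = true := by decide +kernel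
theorem factP_blk985 : allRange factP 7 (985 * 2 ^ 7) = true := by decide +kernel
theorem factP_blk986 : allRange factP 7 (986 * 2 ^ 7) = true := by decide +kernel
theorem factP_blk987 : allRange factP 7 (987 * 2 ^ 7) = true := by decide +kernel
theorem factP_blk988 : allRange factP 7 (988 * 2 ^ 7) = true := by decide +kernel
theorem factP_blk989 : allRange factP 7 (989 * 2 ^ 7) = true := by decide +kernel
theorem factP_blk990 : allRange factP 7 (990 * 2 ^ 7) = true := by decide +kernel
theorem factP_blk991 : allRange factP 7 (991 * 2 ^ 7) = true := by decide +kernel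
theorem factP_blk992 : allRange factP 7 (992 * 2 ^ 7) = true := by decide +kernel
theorem factP_blk993 : allRange factP 7 (993 * 2 ^ 7) = true := by decide +kernel
theorem factP_blk994 : allRange factP 7 (994 * 2 ^ 7) = true := by decide +kernel
theorem factP_blk995 : allRange factP 7 (995 * 2 ^ 7) = true := by decide +kernel
theorem factP_blk996 : allRange factP 7 (996 * 2 ^ 7) = true := by decide +kernel
theorem factP_blk997 : allRange factP 7 (997 * 2 ^ 7) = true := by decide +kernel
theorem factP_blk998 : allRange factP 7 (998 * 2 ^ 7) = true := by decide +kernel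
theorem factP_blk999 : allRange factP 7 (999 * 2 ^ 7) = true := by decide +kernel
theorem factP_blk1000 : allRange factP 7 (1000 * 2 ^ 7) = true := by decide +kernel
theorem factP_blk1001 : allRange factP 7 (1001 * 2 ^ 7) = true := by decide +kernel
theorem factP_blk1002 : allRange factP 7 (1002 * 2 ^ 7) = true := by decide +kernel
theorem factP_blk1003 : allRange factP 7 (1003 * 2 ^ 7) = true := by decide +kernel
theorem factP_blk1004 : allRange factP 7 (1004 * 2 ^ 7) = true := by decide +kernel
theorem factP_blk1005 : allRange factP 7 (1005 * 2 ^ 7) = true := by decide +kernel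
theorem factP_blk1006 : allRange factP 7 (1006 * 2 ^ 7) = true := by decide +kernel
theorem factP_blk1007 : allRange factP 7 (1007 * 2 ^ 7) = true := by decide +kernel
theorem factP_blk1008 : allRange factP 7 (1008 * 2 ^ 7) = true := by decide +kernel
theorem factP_blk1009 : allRange factP 7 (1009 * 2 ^ 7) = true := by decide +kernel
theorem factP_blk1010 : allRange factP 7 (1010 * 2 ^ 7) = true := by decide +kernel
theorem factP_blk1011 : allRange factP 7 (1011 * 2 ^ 7) = true := by decide +kernel
theorem factP_blk1012 : allRange factP 7 (1012 * 2 ^ 7) = true := by decide +kernel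
theorem factP_blk1013 : allRange factP 7 (1013 * 2 ^ 7) = true := by decide +kernel
theorem factP_blk1014 : allRange factP 7 (1014 * 2 ^ 7) = true := by decide +kernel
theorem factP_blk1015 : allRange factP 7 (1015 * 2 ^ 7) = true := by decide +kernel
theorem factP_blk1016 : allRange factP 7 (1016 * 2 ^ 7) = true := by decide +kernel
theorem factP_blk1017 : allRange factP 7 (1017 * 2 ^ 7) = true := by decide +kernel
theorem factP_blk1018 : allRange factP 7 (1018 * 2 ^ 7) = true := by decide +kernel
theorem factP_blk1019 : allRange factP 7 (1019 * 2 ^ 7) = true := by decide +kernel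
theorem factP_blk1020 : allRange factP 7 (1020 * 2 ^ 7) = true := by decide +kernel
theorem factP_blk1021 : allRange factP 7 (1021 * 2 ^ 7) = true := by decide +kernel
theorem factP_blk1022 : allRange factP 7 (1022 * 2 ^ 7) = true := by decide +kernel
theorem factP_blk1023 : allRange factP 7 (1023 * 2 ^ 7) = true := by decide +kernel
theorem factP_f15 : ∀ k, 960 ≤ k → k < 1024 → allRange factP 7 (k * 2 ^ 7) = true := by
  intro k h1 h2
  interval_cases k
  · exact factP_blk960
  · exact factP_blk961
  · exact factP_blk962
  · exact factP_blk963
  · exact factP_blk964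
  · exact factP_blk965
  · exact factP_blk966
  · exact factP_blk967
  · exact factP_blk968
  · exact factP_blk969
  · exact factP_blk970
  · exact factP_blk971
  · exact factP_blk972
  · exact factP_blk973
  · exact factP_blk974
  · exact factP_blk975
  · exact factP_blk976
  · exact factP_blk977
  · exact factP_blk978
  · exact factP_blk979
  · exact factP_blk980
  · exact factP_blk981
  · exact factP_blk982
  · exact factP_blk983
  · exact factP_blk984
  · exact factP_blk985
  · exact factP_blk986
  · exact factP_blk987
  · exact factP_blk988
  · exact factP_blk989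
  · exact factP_blk990
  · exact factP_blk991
  · exact factP_blk992
  · exact factP_blk993
  · exact factP_blk994
  · exact factP_blk995
  · exact factP_blk996
  · exact factP_blk997
  · exact factP_blk998
  · exact factP_blk999
  · exact factP_blk1000
  · exact factP_blk1001
  · exact factP_blk1002
  · exact factP_blk1003
  · exact factP_blk1004
  · exact factP_blk1005
  · exact factP_blk1006
  · exact factP_blk1007
  · exact factP_blk1008
  · exact factP_blk1009
  · exact factP_blk1010
  · exact factP_blk1011
  · exact factP_blk1012
  · exact factP_blk1013
  · exact factP_blk1014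
  · exact factP_blk1015
  · exact factP_blk1016
  · exact factP_blk1017
  · exact factP_blk1018
  · exact factP_blk1019
  · exact factP_blk1020
  · exact factP_blk1021
  · exact factP_blk1022
  · exact factP_blk1023

end Cfsg.Agent.Lib.Helper28.ON122760
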