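import Cfsg.Agent.Lib.Helper28.ON122760.Defs

set_option autoImplicit false
set_option linter.unusedVariables false
set_option Elab.async false

namespace Cfsg.Agent.Lib.Helper28.ON122760

open Cfsg.Spor.ON (Gen)
open Cfsg.Agent.Lib.Helper28.TC
open Cfsg.Agent.Lib.Helper28.TC2

theorem factP_blk1024 : allRange factP 7 (1024 * 2 ^ 7) = true := by decide +kernel
theorem factP_blk1025 : allRange factP 7 (1025 * 2 ^ 7) = true := by decide +kernel
theorem factP_blk1026 : allRange factP 7 (1026 * 2 ^ 7) = true := by decide +kernel
theorem factP_blk1027 : allRange factP 7 (1027 * 2 ^ 7) = true := by decide +kernel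
theorem factP_blk1028 : allRange factP 7 (1028 * 2 ^ 7) = true := by decide +kernel
theorem factP_blk1029 : allRange factP 7 (1029 * 2 ^ 7) = true := by decide +kernel
theorem factP_blk1030 : allRange factP 7 (1030 * 2 ^ 7) = true := by decide +kernel
theorem factP_blk1031 : allRange factP 7 (1031 * 2 ^ 7) = true := by decide +kernel
theorem factP_blk1032 : allRange factP 7 (1032 * 2 ^ 7) = true := by decide +kernel
theorem factP_blk1033 : allRange factP 7 (1033 * 2 ^ 7) = true := by decide +kernel
theorem factP_blk1034 : allRange factP 7 (1034 * 2 ^ 7) = true := by decide +kernel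
theorem factP_blk1035 : allRange factP 7 (1035 * 2 ^ 7) = true := by decide +kernel
theorem factP_blk1036 : allRange factP 7 (1036 * 2 ^ 7) = true := by decide +kernel
theorem factP_blk1037 : allRange factP 7 (1037 * 2 ^ 7) = true := by decide +kernel
theorem factP_blk1038 : allRange factP 7 (1038 * 2 ^ 7) = true := by decide +kernel
theorem factP_blk1039 : allRange factP 7 (1039 * 2 ^ 7) = true := by decide +kernel
theorem factP_blk1040 : allRange factP 7 (1040 * 2 ^ 7) = true := by decide +kernel
theorem factP_blk1041 : allRange factP 7 (1041 * 2 ^ 7) = true := by decide +kernel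
theorem factP_blk1042 : allRange factP 7 (1042 * 2 ^ 7) = true := by decide +kernel
theorem factP_blk1043 : allRange factP 7 (1043 * 2 ^ 7) = true := by decide +kernel
theorem factP_blk1044 : allRange factP 7 (1044 * 2 ^ 7) = true := by decide +kernel
theorem factP_blk1045 : allRange factP 7 (1045 * 2 ^ 7) = true := by decide +kernel
theorem factP_blk1046 : allRange factP 7 (1046 * 2 ^ 7) = true := by decide +kernel
theorem factP_blk1047 : allRange factP 7 (1047 * 2 ^ 7) = true := by decide +kernel
theorem factP_blk1048 : allRange factP 7 (1048 * 2 ^ 7) = true := by decide +kernel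
theorem factP_blk1049 : allRange factP 7 (1049 * 2 ^ 7) = true := by decide +kernel
theorem factP_blk1050 : allRange factP 7 (1050 * 2 ^ 7) = true := by decide +kernel
theorem factP_blk1051 : allRange factP 7 (1051 * 2 ^ 7) = true := by decide +kernel
theorem factP_blk1052 : allRange factP 7 (1052 * 2 ^ 7) = true := by decide +kernel
theorem factP_blk1053 : allRange factP 7 (1053 * 2 ^ 7) = true := by decide +kernel
theorem factP_blk1054 : allRange factP 7 (1054 * 2 ^ 7) = true := by decide +kernel
theorem factP_blk1055 : allRange factP 7 (1055 * 2 ^ 7) = true := by decide +kernel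
theorem factP_blk1056 : allRange factP 7 (1056 * 2 ^ 7) = true := by decide +kernel
theorem factP_blk1057 : allRange factP 7 (1057 * 2 ^ 7) = true := by decide +kernel
theorem factP_blk1058 : allRange factP 7 (1058 * 2 ^ 7) = true := by decide +kernel
theorem factP_blk1059 : allRange factP 7 (1059 * 2 ^ 7) = true := by decide +kernel
theorem factP_blk1060 : allRange factP 7 (1060 * 2 ^ 7) = true := by decide +kernel
theorem factP_blk1061 : allRange factP 7 (1061 * 2 ^ 7) = true := by decide +kernel
theorem factP_blk1062 : allRange factP 7 (1062 * 2 ^ 7) = true := by decide +kernel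
theorem factP_blk1063 : allRange factP 7 (1063 * 2 ^ 7) = true := by decide +kernel
theorem factP_blk1064 : allRange factP 7 (1064 * 2 ^ 7) = true := by decide +kernel
theorem factP_blk1065 : allRange factP 7 (1065 * 2 ^ 7) = true := by decide +kernel
theorem factP_blk1066 : allRange factP 7 (1066 * 2 ^ 7) = true := by decide +kernel
theorem factP_blk1067 : allRange factP 7 (1067 * 2 ^ 7) = true := by decide +kernel
theorem factP_blk1068 : allRange factP 7 (1068 * 2 ^ 7) = true := by decide +kernel
theorem factP_blk1069 : allRange factP 7 (1069 * 2 ^ 7) = true := by decide +kernel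
theorem factP_blk1070 : allRange factP 7 (1070 * 2 ^ 7) = true := by decide +kernel
theorem factP_blk1071 : allRange factP 7 (1071 * 2 ^ 7) = true := by decide +kernel
theorem factP_blk1072 : allRange factP 7 (1072 * 2 ^ 7) = true := by decide +kernel
theorem factP_blk1073 : allRange factP 7 (1073 * 2 ^ 7) = true := by decide +kernel
theorem factP_blk1074 : allRange factP 7 (1074 * 2 ^ 7) = true := by decide +kernel
theorem factP_blk1075 : allRange factP 7 (1075 * 2 ^ 7) = true := by decide +kernel
theorem factP_blk1076 : allRange factP 7 (1076 * 2 ^ 7) = true := by decide +kernel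
theorem factP_blk1077 : allRange factP 7 (1077 * 2 ^ 7) = true := by decide +kernel
theorem factP_blk1078 : allRange factP 7 (1078 * 2 ^ 7) = true := by decide +kernel
theorem factP_blk1079 : allRange factP 7 (1079 * 2 ^ 7) = true := by decide +kernel
theorem factP_blk1080 : allRange factP 7 (1080 * 2 ^ 7) = true := by decide +kernel
theorem factP_blk1081 : allRange factP 7 (1081 * 2 ^ 7) = true := by decide +kernel
theorem factP_blk1082 : allRange factP 7 (1082 * 2 ^ 7) = true := by decide +kernel
theorem factP_blk1083 : allRange factP 7 (1083 * 2 ^ 7) = true := by decide +kernel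
theorem factP_blk1084 : allRange factP 7 (1084 * 2 ^ 7) = true := by decide +kernel
theorem factP_blk1085 : allRange factP 7 (1085 * 2 ^ 7) = true := by decide +kernel
theorem factP_blk1086 : allRange factP 7 (1086 * 2 ^ 7) = true := by decide +kernel
theorem factP_blk1087 : allRange factP 7 (1087 * 2 ^ 7) = true := by decide +kernel
theorem factP_f16 : ∀ k, 1024 ≤ k → k < 1088 → allRange factP 7 (k * 2 ^ 7) = true := by
  intro k h1 h2
  interval_cases k
  · exact factP_blk1024
  · exact factP_blk1025
  · exact factP_blk1026
  · exact factP_blk1027
  · exact factP_blk1028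
  · exact factP_blk1029
  · exact factP_blk1030
  · exact factP_blk1031
  · exact factP_blk1032
  · exact factP_blk1033
  · exact factP_blk1034
  · exact factP_blk1035
  · exact factP_blk1036
  · exact factP_blk1037
  · exact factP_blk1038
  · exact factP_blk1039
  · exact factP_blk1040
  · exact factP_blk1041
  · exact factP_blk1042
  · exact factP_blk1043
  · exact factP_blk1044
  · exact factP_blk1045
  · exact factP_blk1046
  · exact factP_blk1047
  · exact factP_blk1048
  · exact factP_blk1049
  · exact factP_blk1050
  · exact factP_blk1051
  · exact factP_blk1052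
  · exact factP_blk1053
  · exact factP_blk1054
  · exact factP_blk1055
  · exact factP_blk1056
  · exact factP_blk1057
  · exact factP_blk1058
  · exact factP_blk1059
  · exact factP_blk1060
  · exact factP_blk1061
  · exact factP_blk1062
  · exact factP_blk1063
  · exact factP_blk1064
  · exact factP_blk1065
  · exact factP_blk1066
  · exact factP_blk1067
  · exact factP_blk1068
  · exact factP_blk1069
  · exact factP_blk1070
  · exact factP_blk1071
  · exact factP_blk1072
  · exact factP_blk1073
  · exact factP_blk1074
  · exact factP_blk1075
  · exact factP_blk1076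
  · exact factP_blk1077
  · exact factP_blk1078
  · exact factP_blk1079
  · exact factP_blk1080
  · exact factP_blk1081
  · exact factP_blk1082
  · exact factP_blk1083
  · exact factP_blk1084
  · exact factP_blk1085
  · exact factP_blk1086
  · exact factP_blk1087

end Cfsg.Agent.Lib.Helper28.ON122760
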