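import Cfsg.Agent.Lib.Helper28.ON122760.Defs

set_option autoImplicit false
set_option linter.unusedVariables false
set_option Elab.async false

namespace Cfsg.Agent.Lib.Helper28.ON122760

open Cfsg.Spor.ON (Gen)
open Cfsg.Agent.Lib.Helper28.TC
open Cfsg.Agent.Lib.Helper28.TC2

theorem factP_blk1408 : allRange factP 7 (1408 * 2 ^ 7) = true := by decide +kernel
theorem factP_blk1409 : allRange factP 7 (1409 * 2 ^ 7) = true := by decide +kernel
theorem factP_blk1410 : allRange factP 7 (1410 * 2 ^ 7) = true := by decide +kernel
theorem factP_blk1411 : allRange factP 7 (1411 * 2 ^ 7) = true := by decide +kernel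
theorem factP_blk1412 : allRange factP 7 (1412 * 2 ^ 7) = true := by decide +kernel
theorem factP_blk1413 : allRange factP 7 (1413 * 2 ^ 7) = true := by decide +kernel
theorem factP_blk1414 : allRange factP 7 (1414 * 2 ^ 7) = true := by decide +kernel
theorem factP_blk1415 : allRange factP 7 (1415 * 2 ^ 7) = true := by decide +kernel
theorem factP_blk1416 : allRange factP 7 (1416 * 2 ^ 7) = true := by decide +kernel
theorem factP_blk1417 : allRange factP 7 (1417 * 2 ^ 7) = true := by decide +kernel
theorem factP_blk1418 : allRange factP 7 (1418 * 2 ^ 7) = true := by decide +kernel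
theorem factP_blk1419 : allRange factP 7 (1419 * 2 ^ 7) = true := by decide +kernel
theorem factP_blk1420 : allRange factP 7 (1420 * 2 ^ 7) = true := by decide +kernel
theorem factP_blk1421 : allRange factP 7 (1421 * 2 ^ 7) = true := by decide +kernel
theorem factP_blk1422 : allRange factP 7 (1422 * 2 ^ 7) = true := by decide +kernel
theorem factP_blk1423 : allRange factP 7 (1423 * 2 ^ 7) = true := by decide +kernel
theorem factP_blk1424 : allRange factP 7 (1424 * 2 ^ 7) = true := by decide +kernel
theorem factP_blk1425 : allRange factP 7 (1425 * 2 ^ 7) = true := by decide +kernel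
theorem factP_blk1426 : allRange factP 7 (1426 * 2 ^ 7) = true := by decide +kernel
theorem factP_blk1427 : allRange factP 7 (1427 * 2 ^ 7) = true := by decide +kernel
theorem factP_blk1428 : allRange factP 7 (1428 * 2 ^ 7) = true := by decide +kernel
theorem factP_blk1429 : allRange factP 7 (1429 * 2 ^ 7) = true := by decide +kernel
theorem factP_blk1430 : allRange factP 7 (1430 * 2 ^ 7) = true := by decide +kernel
theorem factP_blk1431 : allRange factP 7 (1431 * 2 ^ 7) = true := by decide +kernel
theorem factP_blk1432 : allRange factP 7 (1432 * 2 ^ 7) = true := by decide +kernel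
theorem factP_blk1433 : allRange factP 7 (1433 * 2 ^ 7) = true := by decide +kernel
theorem factP_blk1434 : allRange factP 7 (1434 * 2 ^ 7) = true := by decide +kernel
theorem factP_blk1435 : allRange factP 7 (1435 * 2 ^ 7) = true := by decide +kernel
theorem factP_blk1436 : allRange factP 7 (1436 * 2 ^ 7) = true := by decide +kernel
theorem factP_blk1437 : allRange factP 7 (1437 * 2 ^ 7) = true := by decide +kernel
theorem factP_blk1438 : allRange factP 7 (1438 * 2 ^ 7) = true := by decide +kernel
theorem factP_blk1439 : allRange factP 7 (1439 * 2 ^ 7) = true := by decide +kernel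
theorem factP_blk1440 : allRange factP 7 (1440 * 2 ^ 7) = true := by decide +kernel
theorem factP_blk1441 : allRange factP 7 (1441 * 2 ^ 7) = true := by decide +kernel
theorem factP_blk1442 : allRange factP 7 (1442 * 2 ^ 7) = true := by decide +kernel
theorem factP_blk1443 : allRange factP 7 (1443 * 2 ^ 7) = true := by decide +kernel
theorem factP_blk1444 : allRange factP 7 (1444 * 2 ^ 7) = true := by decide +kernel
theorem factP_blk1445 : allRange factP 7 (1445 * 2 ^ 7) = true := by decide +kernel
theorem factP_blk1446 : allRange factP 7 (1446 * 2 ^ 7) = true := by decide +kernel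
theorem factP_blk1447 : allRange factP 7 (1447 * 2 ^ 7) = true := by decide +kernel
theorem factP_blk1448 : allRange factP 7 (1448 * 2 ^ 7) = true := by decide +kernel
theorem factP_blk1449 : allRange factP 7 (1449 * 2 ^ 7) = true := by decide +kernel
theorem factP_blk1450 : allRange factP 7 (1450 * 2 ^ 7) = true := by decide +kernel
theorem factP_blk1451 : allRange factP 7 (1451 * 2 ^ 7) = true := by decide +kernel
theorem factP_blk1452 : allRange factP 7 (1452 * 2 ^ 7) = true := by decide +kernel
theorem factP_blk1453 : allRange factP 7 (1453 * 2 ^ 7) = true := by decide +kernel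
theorem factP_blk1454 : allRange factP 7 (1454 * 2 ^ 7) = true := by decide +kernel
theorem factP_blk1455 : allRange factP 7 (1455 * 2 ^ 7) = true := by decide +kernel
theorem factP_blk1456 : allRange factP 7 (1456 * 2 ^ 7) = true := by decide +kernel
theorem factP_blk1457 : allRange factP 7 (1457 * 2 ^ 7) = true := by decide +kernel
theorem factP_blk1458 : allRange factP 7 (1458 * 2 ^ 7) = true := by decide +kernel
theorem factP_blk1459 : allRange factP 7 (1459 * 2 ^ 7) = true := by decide +kernel
theorem factP_blk1460 : allRange factP 7 (1460 * 2 ^ 7) = true := by decide +kernel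
theorem factP_blk1461 : allRange factP 7 (1461 * 2 ^ 7) = true := by decide +kernel
theorem factP_blk1462 : allRange factP 7 (1462 * 2 ^ 7) = true := by decide +kernel
theorem factP_blk1463 : allRange factP 7 (1463 * 2 ^ 7) = true := by decide +kernel
theorem factP_blk1464 : allRange factP 7 (1464 * 2 ^ 7) = true := by decide +kernel
theorem factP_blk1465 : allRange factP 7 (1465 * 2 ^ 7) = true := by decide +kernel
theorem factP_blk1466 : allRange factP 7 (1466 * 2 ^ 7) = true := by decide +kernel
theorem factP_blk1467 : allRange factP 7 (1467 * 2 ^ 7) = true := by decide +kernel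
theorem factP_blk1468 : allRange factP 7 (1468 * 2 ^ 7) = true := by decide +kernel
theorem factP_blk1469 : allRange factP 7 (1469 * 2 ^ 7) = true := by decide +kernel
theorem factP_blk1470 : allRange factP 7 (1470 * 2 ^ 7) = true := by decide +kernel
theorem factP_blk1471 : allRange factP 7 (1471 * 2 ^ 7) = true := by decide +kernel
theorem factP_f22 : ∀ k, 1408 ≤ k → k < 1472 → allRange factP 7 (k * 2 ^ 7) = true := by
  intro k h1 h2
  interval_cases k
  · exact factP_blk1408
  · exact factP_blk1409
  · exact factP_blk1410
  · exact factP_blk1411
  · exact factP_blk1412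
  · exact factP_blk1413
  · exact factP_blk1414
  · exact factP_blk1415
  · exact factP_blk1416
  · exact factP_blk1417
  · exact factP_blk1418
  · exact factP_blk1419
  · exact factP_blk1420
  · exact factP_blk1421
  · exact factP_blk1422
  · exact factP_blk1423
  · exact factP_blk1424
  · exact factP_blk1425
  · exact factP_blk1426
  · exact factP_blk1427
  · exact factP_blk1428
  · exact factP_blk1429
  · exact factP_blk1430
  · exact factP_blk1431
  · exact factP_blk1432
  · exact factP_blk1433
  · exact factP_blk1434
  · exact factP_blk1435
  · exact factP_blk1436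
  · exact factP_blk1437
  · exact factP_blk1438
  · exact factP_blk1439
  · exact factP_blk1440
  · exact factP_blk1441
  · exact factP_blk1442
  · exact factP_blk1443
  · exact factP_blk1444
  · exact factP_blk1445
  · exact factP_blk1446
  · exact factP_blk1447
  · exact factP_blk1448
  · exact factP_blk1449
  · exact factP_blk1450
  · exact factP_blk1451
  · exact factP_blk1452
  · exact factP_blk1453
  · exact factP_blk1454
  · exact factP_blk1455
  · exact factP_blk1456
  · exact factP_blk1457
  · exact factP_blk1458
  · exact factP_blk1459
  · exact factP_blk1460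
  · exact factP_blk1461
  · exact factP_blk1462
  · exact factP_blk1463
  · exact factP_blk1464
  · exact factP_blk1465
  · exact factP_blk1466
  · exact factP_blk1467
  · exact factP_blk1468
  · exact factP_blk1469
  · exact factP_blk1470
  · exact factP_blk1471

end Cfsg.Agent.Lib.Helper28.ON122760
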