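import Cfsg.Agent.Lib.Helper28.ON122760.Defs

set_option autoImplicit false
set_option linter.unusedVariables false
set_option Elab.async false

namespace Cfsg.Agent.Lib.Helper28.ON122760

open Cfsg.Spor.ON (Gen)
open Cfsg.Agent.Lib.Helper28.TC
open Cfsg.Agent.Lib.Helper28.TC2

theorem factP_blk1472 : allRange factP 7 (1472 * 2 ^ 7) = true := by decide +kernel
theorem factP_blk1473 : allRange factP 7 (1473 * 2 ^ 7) = true := by decide +kernel
theorem factP_blk1474 : allRange factP 7 (1474 * 2 ^ 7) = true := by decide +kernel
theorem factP_blk1475 : allRange factP 7 (1475 * 2 ^ 7) = true := by decide +kernel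
theorem factP_blk1476 : allRange factP 7 (1476 * 2 ^ 7) = true := by decide +kernel
theorem factP_blk1477 : allRange factP 7 (1477 * 2 ^ 7) = true := by decide +kernel
theorem factP_blk1478 : allRange factP 7 (1478 * 2 ^ 7) = true := by decide +kernel
theorem factP_blk1479 : allRange factP 7 (1479 * 2 ^ 7) = true := by decide +kernel
theorem factP_blk1480 : allRange factP 7 (1480 * 2 ^ 7) = true := by decide +kernel
theorem factP_blk1481 : allRange factP 7 (1481 * 2 ^ 7) = true := by decide +kernel
theorem factP_blk1482 : allRange factP 7 (1482 * 2 ^ 7) = true := by decide +kernel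
theorem factP_blk1483 : allRange factP 7 (1483 * 2 ^ 7) = true := by decide +kernel
theorem factP_blk1484 : allRange factP 7 (1484 * 2 ^ 7) = true := by decide +kernel
theorem factP_blk1485 : allRange factP 7 (1485 * 2 ^ 7) = true := by decide +kernel
theorem factP_blk1486 : allRange factP 7 (1486 * 2 ^ 7) = true := by decide +kernel
theorem factP_blk1487 : allRange factP 7 (1487 * 2 ^ 7) = true := by decide +kernel
theorem factP_blk1488 : allRange factP 7 (1488 * 2 ^ 7) = true := by decide +kernel
theorem factP_blk1489 : allRange factP 7 (1489 * 2 ^ 7) = true := by decide +kernel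
theorem factP_blk1490 : allRange factP 7 (1490 * 2 ^ 7) = true := by decide +kernel
theorem factP_blk1491 : allRange factP 7 (1491 * 2 ^ 7) = true := by decide +kernel
theorem factP_blk1492 : allRange factP 7 (1492 * 2 ^ 7) = true := by decide +kernel
theorem factP_blk1493 : allRange factP 7 (1493 * 2 ^ 7) = true := by decide +kernel
theorem factP_blk1494 : allRange factP 7 (1494 * 2 ^ 7) = true := by decide +kernel
theorem factP_blk1495 : allRange factP 7 (1495 * 2 ^ 7) = true := by decide +kernel
theorem factP_blk1496 : allRange factP 7 (1496 * 2 ^ 7) = true := by decide +kernel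
theorem factP_blk1497 : allRange factP 7 (1497 * 2 ^ 7) = true := by decide +kernel
theorem factP_blk1498 : allRange factP 7 (1498 * 2 ^ 7) = true := by decide +kernel
theorem factP_blk1499 : allRange factP 7 (1499 * 2 ^ 7) = true := by decide +kernel
theorem factP_blk1500 : allRange factP 7 (1500 * 2 ^ 7) = true := by decide +kernel
theorem factP_blk1501 : allRange factP 7 (1501 * 2 ^ 7) = true := by decide +kernel
theorem factP_blk1502 : allRange factP 7 (1502 * 2 ^ 7) = true := by decide +kernel
theorem factP_blk1503 : allRange factP 7 (1503 * 2 ^ 7) = true := by decide +kernel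
theorem factP_blk1504 : allRange factP 7 (1504 * 2 ^ 7) = true := by decide +kernel
theorem factP_blk1505 : allRange factP 7 (1505 * 2 ^ 7) = true := by decide +kernel
theorem factP_blk1506 : allRange factP 7 (1506 * 2 ^ 7) = true := by decide +kernel
theorem factP_blk1507 : allRange factP 7 (1507 * 2 ^ 7) = true := by decide +kernel
theorem factP_blk1508 : allRange factP 7 (1508 * 2 ^ 7) = true := by decide +kernel
theorem factP_blk1509 : allRange factP 7 (1509 * 2 ^ 7) = true := by decide +kernel
theorem factP_blk1510 : allRange factP 7 (1510 * 2 ^ 7) = true := by decide +kernel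
theorem factP_blk1511 : allRange factP 7 (1511 * 2 ^ 7) = true := by decide +kernel
theorem factP_blk1512 : allRange factP 7 (1512 * 2 ^ 7) = true := by decide +kernel
theorem factP_blk1513 : allRange factP 7 (1513 * 2 ^ 7) = true := by decide +kernel
theorem factP_blk1514 : allRange factP 7 (1514 * 2 ^ 7) = true := by decide +kernel
theorem factP_blk1515 : allRange factP 7 (1515 * 2 ^ 7) = true := by decide +kernel
theorem factP_blk1516 : allRange factP 7 (1516 * 2 ^ 7) = true := by decide +kernel
theorem factP_blk1517 : allRange factP 7 (1517 * 2 ^ 7) = true := by decide +kernel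
theorem factP_blk1518 : allRange factP 7 (1518 * 2 ^ 7) = true := by decide +kernel
theorem factP_blk1519 : allRange factP 7 (1519 * 2 ^ 7) = true := by decide +kernel
theorem factP_blk1520 : allRange factP 7 (1520 * 2 ^ 7) = true := by decide +kernel
theorem factP_blk1521 : allRange factP 7 (1521 * 2 ^ 7) = true := by decide +kernel
theorem factP_blk1522 : allRange factP 7 (1522 * 2 ^ 7) = true := by decide +kernel
theorem factP_blk1523 : allRange factP 7 (1523 * 2 ^ 7) = true := by decide +kernel
theorem factP_blk1524 : allRange factP 7 (1524 * 2 ^ 7) = true := by decide +kernel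
theorem factP_blk1525 : allRange factP 7 (1525 * 2 ^ 7) = true := by decide +kernel
theorem factP_blk1526 : allRange factP 7 (1526 * 2 ^ 7) = true := by decide +kernel
theorem factP_blk1527 : allRange factP 7 (1527 * 2 ^ 7) = true := by decide +kernel
theorem factP_blk1528 : allRange factP 7 (1528 * 2 ^ 7) = true := by decide +kernel
theorem factP_blk1529 : allRange factP 7 (1529 * 2 ^ 7) = true := by decide +kernel
theorem factP_blk1530 : allRange factP 7 (1530 * 2 ^ 7) = true := by decide +kernel
theorem factP_blk1531 : allRange factP 7 (1531 * 2 ^ 7) = true := by decide +kernel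
theorem factP_blk1532 : allRange factP 7 (1532 * 2 ^ 7) = true := by decide +kernel
theorem factP_blk1533 : allRange factP 7 (1533 * 2 ^ 7) = true := by decide +kernel
theorem factP_blk1534 : allRange factP 7 (1534 * 2 ^ 7) = true := by decide +kernel
theorem factP_blk1535 : allRange factP 7 (1535 * 2 ^ 7) = true := by decide +kernel
theorem factP_f23 : ∀ k, 1472 ≤ k → k < 1536 → allRange factP 7 (k * 2 ^ 7) = true := by
  intro k h1 h2
  interval_cases k
  · exact factP_blk1472
  · exact factP_blk1473
  · exact factP_blk1474
  · exact factP_blk1475
  · exact factP_blk1476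
  · exact factP_blk1477
  · exact factP_blk1478
  · exact factP_blk1479
  · exact factP_blk1480
  · exact factP_blk1481
  · exact factP_blk1482
  · exact factP_blk1483
  · exact factP_blk1484
  · exact factP_blk1485
  · exact factP_blk1486
  · exact factP_blk1487
  · exact factP_blk1488
  · exact factP_blk1489
  · exact factP_blk1490
  · exact factP_blk1491
  · exact factP_blk1492
  · exact factP_blk1493
  · exact factP_blk1494
  · exact factP_blk1495
  · exact factP_blk1496
  · exact factP_blk1497
  · exact factP_blk1498
  · exact factP_blk1499
  · exact factP_blk1500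
  · exact factP_blk1501
  · exact factP_blk1502
  · exact factP_blk1503
  · exact factP_blk1504
  · exact factP_blk1505
  · exact factP_blk1506
  · exact factP_blk1507
  · exact factP_blk1508
  · exact factP_blk1509
  · exact factP_blk1510
  · exact factP_blk1511
  · exact factP_blk1512
  · exact factP_blk1513
  · exact factP_blk1514
  · exact factP_blk1515
  · exact factP_blk1516
  · exact factP_blk1517
  · exact factP_blk1518
  · exact factP_blk1519
  · exact factP_blk1520
  · exact factP_blk1521
  · exact factP_blk1522
  · exact factP_blk1523
  · exact factP_blk1524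
  · exact factP_blk1525
  · exact factP_blk1526
  · exact factP_blk1527
  · exact factP_blk1528
  · exact factP_blk1529
  · exact factP_blk1530
  · exact factP_blk1531
  · exact factP_blk1532
  · exact factP_blk1533
  · exact factP_blk1534
  · exact factP_blk1535

end Cfsg.Agent.Lib.Helper28.ON122760
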