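import Cfsg.Agent.Lib.Helper28.ON122760.Defs

set_option autoImplicit false
set_option linter.unusedVariables false
set_option Elab.async false

namespace Cfsg.Agent.Lib.Helper28.ON122760

open Cfsg.Spor.ON (Gen)
open Cfsg.Agent.Lib.Helper28.TC
open Cfsg.Agent.Lib.Helper28.TC2

theorem factP_blk1536 : allRange factP 7 (1536 * 2 ^ 7) = true := by decide +kernel
theorem factP_blk1537 : allRange factP 7 (1537 * 2 ^ 7) = true := by decide +kernel
theorem factP_blk1538 : allRange factP 7 (1538 * 2 ^ 7) = true := by decide +kernel
theorem factP_blk1539 : allRange factP 7 (1539 * 2 ^ 7) = true := by decide +kernel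
theorem factP_blk1540 : allRange factP 7 (1540 * 2 ^ 7) = true := by decide +kernel
theorem factP_blk1541 : allRange factP 7 (1541 * 2 ^ 7) = true := by decide +kernel
theorem factP_blk1542 : allRange factP 7 (1542 * 2 ^ 7) = true := by decide +kernel
theorem factP_blk1543 : allRange factP 7 (1543 * 2 ^ 7) = true := by decide +kernel
theorem factP_blk1544 : allRange factP 7 (1544 * 2 ^ 7) = true := by decide +kernel
theorem factP_f24 : ∀ k, 1536 ≤ k → k < 1545 → allRange factP 7 (k * 2 ^ 7) = true := by
  intro k h1 h2
  interval_cases k
  · exact factP_blk1536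
  · exact factP_blk1537
  · exact factP_blk1538
  · exact factP_blk1539
  · exact factP_blk1540
  · exact factP_blk1541
  · exact factP_blk1542
  · exact factP_blk1543
  · exact factP_blk1544

end Cfsg.Agent.Lib.Helper28.ON122760
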