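import Cfsg.Agent.Lib.Helper28.ON122760.Defs

set_option autoImplicit false
set_option linter.unusedVariables false
set_option Elab.async false

namespace Cfsg.Agent.Lib.Helper28.ON122760

open Cfsg.Spor.ON (Gen)
open Cfsg.Agent.Lib.Helper28.TC
open Cfsg.Agent.Lib.Helper28.TC2

theorem factP_blk512 : allRange factP 7 (512 * 2 ^ 7) = true := by decide +kernel
theorem factP_blk513 : allRange factP 7 (513 * 2 ^ 7) = true := by decide +kernel
theorem factP_blk514 : allRange factP 7 (514 * 2 ^ 7) = true := by decide +kernel
theorem factP_blk515 : allRange factP 7 (515 * 2 ^ 7) = true := by decide +kernel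
theorem factP_blk516 : allRange factP 7 (516 * 2 ^ 7) = true := by decide +kernel
theorem factP_blk517 : allRange factP 7 (517 * 2 ^ 7) = true := by decide +kernel
theorem factP_blk518 : allRange factP 7 (518 * 2 ^ 7) = true := by decide +kernel
theorem factP_blk519 : allRange factP 7 (519 * 2 ^ 7) = true := by decide +kernel
theorem factP_blk520 : allRange factP 7 (520 * 2 ^ 7) = true := by decide +kernel
theorem factP_blk521 : allRange factP 7 (521 * 2 ^ 7) = true := by decide +kernel
theorem factP_blk522 : allRange factP 7 (522 * 2 ^ 7) = true := by decide +kernel
theorem factP_blk523 : allRange factP 7 (523 * 2 ^ 7) = true := by decide +kernel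
theorem factP_blk524 : allRange factP 7 (524 * 2 ^ 7) = true := by decide +kernel
theorem factP_blk525 : allRange factP 7 (525 * 2 ^ 7) = true := by decide +kernel
theorem factP_blk526 : allRange factP 7 (526 * 2 ^ 7) = true := by decide +kernel
theorem factP_blk527 : allRange factP 7 (527 * 2 ^ 7) = true := by decide +kernel
theorem factP_blk528 : allRange factP 7 (528 * 2 ^ 7) = true := by decide +kernel
theorem factP_blk529 : allRange factP 7 (529 * 2 ^ 7) = true := by decide +kernel
theorem factP_blk530 : allRange factP 7 (530 * 2 ^ 7) = true := by decide +kernel
theorem factP_blk531 : allRange factP 7 (531 * 2 ^ 7) = true := by decide +kernel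
theorem factP_blk532 : allRange factP 7 (532 * 2 ^ 7) = true := by decide +kernel
theorem factP_blk533 : allRange factP 7 (533 * 2 ^ 7) = true := by decide +kernel
theorem factP_blk534 : allRange factP 7 (534 * 2 ^ 7) = true := by decide +kernel
theorem factP_blk535 : allRange factP 7 (535 * 2 ^ 7) = true := by decide +kernel
theorem factP_blk536 : allRange factP 7 (536 * 2 ^ 7) = true := by decide +kernel
theorem factP_blk537 : allRange factP 7 (537 * 2 ^ 7) = true := by decide +kernel
theorem factP_blk538 : allRange factP 7 (538 * 2 ^ 7) = true := by decide +kernel
theorem factP_blk539 : allRange factP 7 (539 * 2 ^ 7) = true := by decide +kernel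
theorem factP_blk540 : allRange factP 7 (540 * 2 ^ 7) = true := by decide +kernel
theorem factP_blk541 : allRange factP 7 (541 * 2 ^ 7) = true := by decide +kernel
theorem factP_blk542 : allRange factP 7 (542 * 2 ^ 7) = true := by decide +kernel
theorem factP_blk543 : allRange factP 7 (543 * 2 ^ 7) = true := by decide +kernel
theorem factP_blk544 : allRange factP 7 (544 * 2 ^ 7) = true := by decide +kernel
theorem factP_blk545 : allRange factP 7 (545 * 2 ^ 7) = true := by decide +kernel
theorem factP_blk546 : allRange factP 7 (546 * 2 ^ 7) = true := by decide +kernel
theorem factP_blk547 : allRange factP 7 (547 * 2 ^ 7) = true := by decide +kernel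
theorem factP_blk548 : allRange factP 7 (548 * 2 ^ 7) = true := by decide +kernel
theorem factP_blk549 : allRange factP 7 (549 * 2 ^ 7) = true := by decide +kernel
theorem factP_blk550 : allRange factP 7 (550 * 2 ^ 7) = true := by decide +kernel
theorem factP_blk551 : allRange factP 7 (551 * 2 ^ 7) = true := by decide +kernel
theorem factP_blk552 : allRange factP 7 (552 * 2 ^ 7) = true := by decide +kernel
theorem factP_blk553 : allRange factP 7 (553 * 2 ^ 7) = true := by decide +kernel
theorem factP_blk554 : allRange factP 7 (554 * 2 ^ 7) = true := by decide +kernel
theorem factP_blk555 : allRange factP 7 (555 * 2 ^ 7) = true := by decide +kernel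
theorem factP_blk556 : allRange factP 7 (556 * 2 ^ 7) = true := by decide +kernel
theorem factP_blk557 : allRange factP 7 (557 * 2 ^ 7) = true := by decide +kernel
theorem factP_blk558 : allRange factP 7 (558 * 2 ^ 7) = true := by decide +kernel
theorem factP_blk559 : allRange factP 7 (559 * 2 ^ 7) = true := by decide +kernel
theorem factP_blk560 : allRange factP 7 (560 * 2 ^ 7) = true := by decide +kernel
theorem factP_blk561 : allRange factP 7 (561 * 2 ^ 7) = true := by decide +kernel
theorem factP_blk562 : allRange factP 7 (562 * 2 ^ 7) = true := by decide +kernel
theorem factP_blk563 : allRange factP 7 (563 * 2 ^ 7) = true := by decide +kernel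
theorem factP_blk564 : allRange factP 7 (564 * 2 ^ 7) = true := by decide +kernel
theorem factP_blk565 : allRange factP 7 (565 * 2 ^ 7) = true := by decide +kernel
theorem factP_blk566 : allRange factP 7 (566 * 2 ^ 7) = true := by decide +kernel
theorem factP_blk567 : allRange factP 7 (567 * 2 ^ 7) = true := by decide +kernel
theorem factP_blk568 : allRange factP 7 (568 * 2 ^ 7) = true := by decide +kernel
theorem factP_blk569 : allRange factP 7 (569 * 2 ^ 7) = true := by decide +kernel
theorem factP_blk570 : allRange factP 7 (570 * 2 ^ 7) = true := by decide +kernel
theorem factP_blk571 : allRange factP 7 (571 * 2 ^ 7) = true := by decide +kernel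
theorem factP_blk572 : allRange factP 7 (572 * 2 ^ 7) = true := by decide +kernel
theorem factP_blk573 : allRange factP 7 (573 * 2 ^ 7) = true := by decide +kernel
theorem factP_blk574 : allRange factP 7 (574 * 2 ^ 7) = true := by decide +kernel
theorem factP_blk575 : allRange factP 7 (575 * 2 ^ 7) = true := by decide +kernel
theorem factP_f8 : ∀ k, 512 ≤ k → k < 576 → allRange factP 7 (k * 2 ^ 7) = true := by
  intro k h1 h2
  interval_cases k
  · exact factP_blk512
  · exact factP_blk513
  · exact factP_blk514
  · exact factP_blk515
  · exact factP_blk516
  · exact factP_blk517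
  · exact factP_blk518
  · exact factP_blk519
  · exact factP_blk520
  · exact factP_blk521
  · exact factP_blk522
  · exact factP_blk523
  · exact factP_blk524
  · exact factP_blk525
  · exact factP_blk526
  · exact factP_blk527
  · exact factP_blk528
  · exact factP_blk529
  · exact factP_blk530
  · exact factP_blk531
  · exact factP_blk532
  · exact factP_blk533
  · exact factP_blk534
  · exact factP_blk535
  · exact factP_blk536
  · exact factP_blk537
  · exact factP_blk538
  · exact factP_blk539
  · exact factP_blk540
  · exact factP_blk541
  · exact factP_blk542
  · exact factP_blk543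
  · exact factP_blk544
  · exact factP_blk545
  · exact factP_blk546
  · exact factP_blk547
  · exact factP_blk548
  · exact factP_blk549
  · exact factP_blk550
  · exact factP_blk551
  · exact factP_blk552
  · exact factP_blk553
  · exact factP_blk554
  · exact factP_blk555
  · exact factP_blk556
  · exact factP_blk557
  · exact factP_blk558
  · exact factP_blk559
  · exact factP_blk560
  · exact factP_blk561
  · exact factP_blk562
  · exact factP_blk563
  · exact factP_blk564
  · exact factP_blk565
  · exact factP_blk566
  · exact factP_blk567
  · exact factP_blk568
  · exact factP_blk569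
  · exact factP_blk570
  · exact factP_blk571
  · exact factP_blk572
  · exact factP_blk573
  · exact factP_blk574
  · exact factP_blk575

end Cfsg.Agent.Lib.Helper28.ON122760
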