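import Cfsg.Agent.Lib.Helper28.ON122760.Defs

set_option autoImplicit false
set_option linter.unusedVariables false
set_option Elab.async false

namespace Cfsg.Agent.Lib.Helper28.ON122760

open Cfsg.Spor.ON (Gen)
open Cfsg.Agent.Lib.Helper28.TC
open Cfsg.Agent.Lib.Helper28.TC2

theorem factP_blk576 : allRange factP 7 (576 * 2 ^ 7) = true := by decide +kernel
theorem factP_blk577 : allRange factP 7 (577 * 2 ^ 7) = true := by decide +kernel
theorem factP_blk578 : allRange factP 7 (578 * 2 ^ 7) = true := by decide +kernel
theorem factP_blk579 : allRange factP 7 (579 * 2 ^ 7) = true := by decide +kernel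
theorem factP_blk580 : allRange factP 7 (580 * 2 ^ 7) = true := by decide +kernel
theorem factP_blk581 : allRange factP 7 (581 * 2 ^ 7) = true := by decide +kernel
theorem factP_blk582 : allRange factP 7 (582 * 2 ^ 7) = true := by decide +kernel
theorem factP_blk583 : allRange factP 7 (583 * 2 ^ 7) = true := by decide +kernel
theorem factP_blk584 : allRange factP 7 (584 * 2 ^ 7) = true := by decide +kernel
theorem factP_blk585 : allRange factP 7 (585 * 2 ^ 7) = true := by decide +kernel
theorem factP_blk586 : allRange factP 7 (586 * 2 ^ 7) = true := by decide +kernel
theorem factP_blk587 : allRange factP 7 (587 * 2 ^ 7) = true := by decide +kernel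
theorem factP_blk588 : allRange factP 7 (588 * 2 ^ 7) = true := by decide +kernel
theorem factP_blk589 : allRange factP 7 (589 * 2 ^ 7) = true := by decide +kernel
theorem factP_blk590 : allRange factP 7 (590 * 2 ^ 7) = true := by decide +kernel
theorem factP_blk591 : allRange factP 7 (591 * 2 ^ 7) = true := by decide +kernel
theorem factP_blk592 : allRange factP 7 (592 * 2 ^ 7) = true := by decide +kernel
theorem factP_blk593 : allRange factP 7 (593 * 2 ^ 7) = true := by decide +kernel
theorem factP_blk594 : allRange factP 7 (594 * 2 ^ 7) = true := by decide +kernel
theorem factP_blk595 : allRange factP 7 (595 * 2 ^ 7) = true := by decide +kernel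
theorem factP_blk596 : allRange factP 7 (596 * 2 ^ 7) = true := by decide +kernel
theorem factP_blk597 : allRange factP 7 (597 * 2 ^ 7) = true := by decide +kernel
theorem factP_blk598 : allRange factP 7 (598 * 2 ^ 7) = true := by decide +kernel
theorem factP_blk599 : allRange factP 7 (599 * 2 ^ 7) = true := by decide +kernel
theorem factP_blk600 : allRange factP 7 (600 * 2 ^ 7) = true := by decide +kernel
theorem factP_blk601 : allRange factP 7 (601 * 2 ^ 7) = true := by decide +kernel
theorem factP_blk602 : allRange factP 7 (602 * 2 ^ 7) = true := by decide +kernel
theorem factP_blk603 : allRange factP 7 (603 * 2 ^ 7) = true := by decide +kernel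
theorem factP_blk604 : allRange factP 7 (604 * 2 ^ 7) = true := by decide +kernel
theorem factP_blk605 : allRange factP 7 (605 * 2 ^ 7) = true := by decide +kernel
theorem factP_blk606 : allRange factP 7 (606 * 2 ^ 7) = true := by decide +kernel
theorem factP_blk607 : allRange factP 7 (607 * 2 ^ 7) = true := by decide +kernel
theorem factP_blk608 : allRange factP 7 (608 * 2 ^ 7) = true := by decide +kernel
theorem factP_blk609 : allRange factP 7 (609 * 2 ^ 7) = true := by decide +kernel
theorem factP_blk610 : allRange factP 7 (610 * 2 ^ 7) = true := by decide +kernel
theorem factP_blk611 : allRange factP 7 (611 * 2 ^ 7) = true := by decide +kernel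
theorem factP_blk612 : allRange factP 7 (612 * 2 ^ 7) = true := by decide +kernel
theorem factP_blk613 : allRange factP 7 (613 * 2 ^ 7) = true := by decide +kernel
theorem factP_blk614 : allRange factP 7 (614 * 2 ^ 7) = true := by decide +kernel
theorem factP_blk615 : allRange factP 7 (615 * 2 ^ 7) = true := by decide +kernel
theorem factP_blk616 : allRange factP 7 (616 * 2 ^ 7) = true := by decide +kernel
theorem factP_blk617 : allRange factP 7 (617 * 2 ^ 7) = true := by decide +kernel
theorem factP_blk618 : allRange factP 7 (618 * 2 ^ 7) = true := by decide +kernel
theorem factP_blk619 : allRange factP 7 (619 * 2 ^ 7) = true := by decide +kernel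
theorem factP_blk620 : allRange factP 7 (620 * 2 ^ 7) = true := by decide +kernel
theorem factP_blk621 : allRange factP 7 (621 * 2 ^ 7) = true := by decide +kernel
theorem factP_blk622 : allRange factP 7 (622 * 2 ^ 7) = true := by decide +kernel
theorem factP_blk623 : allRange factP 7 (623 * 2 ^ 7) = true := by decide +kernel
theorem factP_blk624 : allRange factP 7 (624 * 2 ^ 7) = true := by decide +kernel
theorem factP_blk625 : allRange factP 7 (625 * 2 ^ 7) = true := by decide +kernel
theorem factP_blk626 : allRange factP 7 (626 * 2 ^ 7) = true := by decide +kernel
theorem factP_blk627 : allRange factP 7 (627 * 2 ^ 7) = true := by decide +kernel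
theorem factP_blk628 : allRange factP 7 (628 * 2 ^ 7) = true := by decide +kernel
theorem factP_blk629 : allRange factP 7 (629 * 2 ^ 7) = true := by decide +kernel
theorem factP_blk630 : allRange factP 7 (630 * 2 ^ 7) = true := by decide +kernel
theorem factP_blk631 : allRange factP 7 (631 * 2 ^ 7) = true := by decide +kernel
theorem factP_blk632 : allRange factP 7 (632 * 2 ^ 7) = true := by decide +kernel
theorem factP_blk633 : allRange factP 7 (633 * 2 ^ 7) = true := by decide +kernel
theorem factP_blk634 : allRange factP 7 (634 * 2 ^ 7) = true := by decide +kernel
theorem factP_blk635 : allRange factP 7 (635 * 2 ^ 7) = true := by decide +kernel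
theorem factP_blk636 : allRange factP 7 (636 * 2 ^ 7) = true := by decide +kernel
theorem factP_blk637 : allRange factP 7 (637 * 2 ^ 7) = true := by decide +kernel
theorem factP_blk638 : allRange factP 7 (638 * 2 ^ 7) = true := by decide +kernel
theorem factP_blk639 : allRange factP 7 (639 * 2 ^ 7) = true := by decide +kernel
theorem factP_f9 : ∀ k, 576 ≤ k → k < 640 → allRange factP 7 (k * 2 ^ 7) = true := by
  intro k h1 h2
  interval_cases k
  · exact factP_blk576
  · exact factP_blk577
  · exact factP_blk578
  · exact factP_blk579
  · exact factP_blk580
  · exact factP_blk581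
  · exact factP_blk582
  · exact factP_blk583
  · exact factP_blk584
  · exact factP_blk585
  · exact factP_blk586
  · exact factP_blk587
  · exact factP_blk588
  · exact factP_blk589
  · exact factP_blk590
  · exact factP_blk591
  · exact factP_blk592
  · exact factP_blk593
  · exact factP_blk594
  · exact factP_blk595
  · exact factP_blk596
  · exact factP_blk597
  · exact factP_blk598
  · exact factP_blk599
  · exact factP_blk600
  · exact factP_blk601
  · exact factP_blk602
  · exact factP_blk603
  · exact factP_blk604
  · exact factP_blk605
  · exact factP_blk606
  · exact factP_blk607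
  · exact factP_blk608
  · exact factP_blk609
  · exact factP_blk610
  · exact factP_blk611
  · exact factP_blk612
  · exact factP_blk613
  · exact factP_blk614
  · exact factP_blk615
  · exact factP_blk616
  · exact factP_blk617
  · exact factP_blk618
  · exact factP_blk619
  · exact factP_blk620
  · exact factP_blk621
  · exact factP_blk622
  · exact factP_blk623
  · exact factP_blk624
  · exact factP_blk625
  · exact factP_blk626
  · exact factP_blk627
  · exact factP_blk628
  · exact factP_blk629
  · exact factP_blk630
  · exact factP_blk631
  · exact factP_blk632
  · exact factP_blk633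
  · exact factP_blk634
  · exact factP_blk635
  · exact factP_blk636
  · exact factP_blk637
  · exact factP_blk638
  · exact factP_blk639

end Cfsg.Agent.Lib.Helper28.ON122760
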