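import Cfsg.Agent.Lib.Helper28.ON122760.Defs

set_option autoImplicit false
set_option linter.unusedVariables false
set_option Elab.async false

namespace Cfsg.Agent.Lib.Helper28.ON122760

open Cfsg.Spor.ON (Gen)
open Cfsg.Agent.Lib.Helper28.TC
open Cfsg.Agent.Lib.Helper28.TC2

theorem permP_blk64 : allRange (guard nn permP) 7 (64 * 2 ^ 7) = true := by decide +kernel
theorem permP_blk65 : allRange (guard nn permP) 7 (65 * 2 ^ 7) = true := by decide +kernel
theorem permP_blk66 : allRange (guard nn permP) 7 (66 * 2 ^ 7) = true := by decide +kernel
theorem permP_blk67 : allRange (guard nn permP) 7 (67 * 2 ^ 7) = true := by decide +kernel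
theorem permP_blk68 : allRange (guard nn permP) 7 (68 * 2 ^ 7) = true := by decide +kernel
theorem permP_blk69 : allRange (guard nn permP) 7 (69 * 2 ^ 7) = true := by decide +kernel
theorem permP_blk70 : allRange (guard nn permP) 7 (70 * 2 ^ 7) = true := by decide +kernel
theorem permP_blk71 : allRange (guard nn permP) 7 (71 * 2 ^ 7) = true := by decide +kernel
theorem permP_blk72 : allRange (guard nn permP) 7 (72 * 2 ^ 7) = true := by decide +kernel
theorem permP_blk73 : allRange (guard nn permP) 7 (73 * 2 ^ 7) = true := by decide +kernel
theorem permP_blk74 : allRange (guard nn permP) 7 (74 * 2 ^ 7) = true := by decide +kernel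
theorem permP_blk75 : allRange (guard nn permP) 7 (75 * 2 ^ 7) = true := by decide +kernel
theorem permP_blk76 : allRange (guard nn permP) 7 (76 * 2 ^ 7) = true := by decide +kernel
theorem permP_blk77 : allRange (guard nn permP) 7 (77 * 2 ^ 7) = true := by decide +kernel
theorem permP_blk78 : allRange (guard nn permP) 7 (78 * 2 ^ 7) = true := by decide +kernel
theorem permP_blk79 : allRange (guard nn permP) 7 (79 * 2 ^ 7) = true := by decide +kernel
theorem permP_blk80 : allRange (guard nn permP) 7 (80 * 2 ^ 7) = true := by decide +kernel
theorem permP_blk81 : allRange (guard nn permP) 7 (81 * 2 ^ 7) = true := by decide +kernel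
theorem permP_blk82 : allRange (guard nn permP) 7 (82 * 2 ^ 7) = true := by decide +kernel
theorem permP_blk83 : allRange (guard nn permP) 7 (83 * 2 ^ 7) = true := by decide +kernel
theorem permP_blk84 : allRange (guard nn permP) 7 (84 * 2 ^ 7) = true := by decide +kernel
theorem permP_blk85 : allRange (guard nn permP) 7 (85 * 2 ^ 7) = true := by decide +kernel
theorem permP_blk86 : allRange (guard nn permP) 7 (86 * 2 ^ 7) = true := by decide +kernel
theorem permP_blk87 : allRange (guard nn permP) 7 (87 * 2 ^ 7) = true := by decide +kernel
theorem permP_blk88 : allRange (guard nn permP) 7 (88 * 2 ^ 7) = true := by decide +kernel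
theorem permP_blk89 : allRange (guard nn permP) 7 (89 * 2 ^ 7) = true := by decide +kernel
theorem permP_blk90 : allRange (guard nn permP) 7 (90 * 2 ^ 7) = true := by decide +kernel
theorem permP_blk91 : allRange (guard nn permP) 7 (91 * 2 ^ 7) = true := by decide +kernel
theorem permP_blk92 : allRange (guard nn permP) 7 (92 * 2 ^ 7) = true := by decide +kernel
theorem permP_blk93 : allRange (guard nn permP) 7 (93 * 2 ^ 7) = true := by decide +kernel
theorem permP_blk94 : allRange (guard nn permP) 7 (94 * 2 ^ 7) = true := by decide +kernel
theorem permP_blk95 : allRange (guard nn permP) 7 (95 * 2 ^ 7) = true := by decide +kernel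
theorem permP_blk96 : allRange (guard nn permP) 7 (96 * 2 ^ 7) = true := by decide +kernel
theorem permP_blk97 : allRange (guard nn permP) 7 (97 * 2 ^ 7) = true := by decide +kernel
theorem permP_blk98 : allRange (guard nn permP) 7 (98 * 2 ^ 7) = true := by decide +kernel
theorem permP_blk99 : allRange (guard nn permP) 7 (99 * 2 ^ 7) = true := by decide +kernel
theorem permP_blk100 : allRange (guard nn permP) 7 (100 * 2 ^ 7) = true := by decide +kernel
theorem permP_blk101 : allRange (guard nn permP) 7 (101 * 2 ^ 7) = true := by decide +kernel
theorem permP_blk102 : allRange (guard nn permP) 7 (102 * 2 ^ 7) = true := by decide +kernel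
theorem permP_blk103 : allRange (guard nn permP) 7 (103 * 2 ^ 7) = true := by decide +kernel
theorem permP_blk104 : allRange (guard nn permP) 7 (104 * 2 ^ 7) = true := by decide +kernel
theorem permP_blk105 : allRange (guard nn permP) 7 (105 * 2 ^ 7) = true := by decide +kernel
theorem permP_blk106 : allRange (guard nn permP) 7 (106 * 2 ^ 7) = true := by decide +kernel
theorem permP_blk107 : allRange (guard nn permP) 7 (107 * 2 ^ 7) = true := by decide +kernel
theorem permP_blk108 : allRange (guard nn permP) 7 (108 * 2 ^ 7) = true := by decide +kernel
theorem permP_blk109 : allRange (guard nn permP) 7 (109 * 2 ^ 7) = true := by decide +kernel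
theorem permP_blk110 : allRange (guard nn permP) 7 (110 * 2 ^ 7) = true := by decide +kernel
theorem permP_blk111 : allRange (guard nn permP) 7 (111 * 2 ^ 7) = true := by decide +kernel
theorem permP_blk112 : allRange (guard nn permP) 7 (112 * 2 ^ 7) = true := by decide +kernel
theorem permP_blk113 : allRange (guard nn permP) 7 (113 * 2 ^ 7) = true := by decide +kernel
theorem permP_blk114 : allRange (guard nn permP) 7 (114 * 2 ^ 7) = true := by decide +kernel
theorem permP_blk115 : allRange (guard nn permP) 7 (115 * 2 ^ 7) = true := by decide +kernel
theorem permP_blk116 : allRange (guard nn permP) 7 (116 * 2 ^ 7) = true := by decide +kernel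
theorem permP_blk117 : allRange (guard nn permP) 7 (117 * 2 ^ 7) = true := by decide +kernel
theorem permP_blk118 : allRange (guard nn permP) 7 (118 * 2 ^ 7) = true := by decide +kernel
theorem permP_blk119 : allRange (guard nn permP) 7 (119 * 2 ^ 7) = true := by decide +kernel
theorem permP_blk120 : allRange (guard nn permP) 7 (120 * 2 ^ 7) = true := by decide +kernel
theorem permP_blk121 : allRange (guard nn permP) 7 (121 * 2 ^ 7) = true := by decide +kernel
theorem permP_blk122 : allRange (guard nn permP) 7 (122 * 2 ^ 7) = true := by decide +kernel
theorem permP_blk123 : allRange (guard nn permP) 7 (123 * 2 ^ 7) = true := by decide +kernel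
theorem permP_blk124 : allRange (guard nn permP) 7 (124 * 2 ^ 7) = true := by decide +kernel
theorem permP_blk125 : allRange (guard nn permP) 7 (125 * 2 ^ 7) = true := by decide +kernel
theorem permP_blk126 : allRange (guard nn permP) 7 (126 * 2 ^ 7) = true := by decide +kernel
theorem permP_blk127 : allRange (guard nn permP) 7 (127 * 2 ^ 7) = true := by decide +kernel
theorem permP_f1 : ∀ k, 64 ≤ k → k < 128 → allRange (guard nn permP) 7 (k * 2 ^ 7) = true := by
  intro k h1 h2
  interval_cases k
  · exact permP_blk64
  · exact permP_blk65
  · exact permP_blk66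
  · exact permP_blk67
  · exact permP_blk68
  · exact permP_blk69
  · exact permP_blk70
  · exact permP_blk71
  · exact permP_blk72
  · exact permP_blk73
  · exact permP_blk74
  · exact permP_blk75
  · exact permP_blk76
  · exact permP_blk77
  · exact permP_blk78
  · exact permP_blk79
  · exact permP_blk80
  · exact permP_blk81
  · exact permP_blk82
  · exact permP_blk83
  · exact permP_blk84
  · exact permP_blk85
  · exact permP_blk86
  · exact permP_blk87
  · exact permP_blk88
  · exact permP_blk89
  · exact permP_blk90
  · exact permP_blk91
  · exact permP_blk92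
  · exact permP_blk93
  · exact permP_blk94
  · exact permP_blk95
  · exact permP_blk96
  · exact permP_blk97
  · exact permP_blk98
  · exact permP_blk99
  · exact permP_blk100
  · exact permP_blk101
  · exact permP_blk102
  · exact permP_blk103
  · exact permP_blk104
  · exact permP_blk105
  · exact permP_blk106
  · exact permP_blk107
  · exact permP_blk108
  · exact permP_blk109
  · exact permP_blk110
  · exact permP_blk111
  · exact permP_blk112
  · exact permP_blk113
  · exact permP_blk114
  · exact permP_blk115
  · exact permP_blk116
  · exact permP_blk117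
  · exact permP_blk118
  · exact permP_blk119
  · exact permP_blk120
  · exact permP_blk121
  · exact permP_blk122
  · exact permP_blk123
  · exact permP_blk124
  · exact permP_blk125
  · exact permP_blk126
  · exact permP_blk127

end Cfsg.Agent.Lib.Helper28.ON122760
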