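import Cfsg.Agent.Lib.Helper28.ON122760.Defs

set_option autoImplicit false
set_option linter.unusedVariables false
set_option Elab.async false

namespace Cfsg.Agent.Lib.Helper28.ON122760

open Cfsg.Spor.ON (Gen)
open Cfsg.Agent.Lib.Helper28.TC
open Cfsg.Agent.Lib.Helper28.TC2

theorem permP_blk704 : allRange (guard nn permP) 7 (704 * 2 ^ 7) = true := by decide +kernel
theorem permP_blk705 : allRange (guard nn permP) 7 (705 * 2 ^ 7) = true := by decide +kernel
theorem permP_blk706 : allRange (guard nn permP) 7 (706 * 2 ^ 7) = true := by decide +kernel
theorem permP_blk707 : allRange (guard nn permP) 7 (707 * 2 ^ 7) = true := by decide +kernel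
theorem permP_blk708 : allRange (guard nn permP) 7 (708 * 2 ^ 7) = true := by decide +kernel
theorem permP_blk709 : allRange (guard nn permP) 7 (709 * 2 ^ 7) = true := by decide +kernel
theorem permP_blk710 : allRange (guard nn permP) 7 (710 * 2 ^ 7) = true := by decide +kernel
theorem permP_blk711 : allRange (guard nn permP) 7 (711 * 2 ^ 7) = true := by decide +kernel
theorem permP_blk712 : allRange (guard nn permP) 7 (712 * 2 ^ 7) = true := by decide +kernel
theorem permP_blk713 : allRange (guard nn permP) 7 (713 * 2 ^ 7) = true := by decide +kernel
theorem permP_blk714 : allRange (guard nn permP) 7 (714 * 2 ^ 7) = true := by decide +kernel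
theorem permP_blk715 : allRange (guard nn permP) 7 (715 * 2 ^ 7) = true := by decide +kernel
theorem permP_blk716 : allRange (guard nn permP) 7 (716 * 2 ^ 7) = true := by decide +kernel
theorem permP_blk717 : allRange (guard nn permP) 7 (717 * 2 ^ 7) = true := by decide +kernel
theorem permP_blk718 : allRange (guard nn permP) 7 (718 * 2 ^ 7) = true := by decide +kernel
theorem permP_blk719 : allRange (guard nn permP) 7 (719 * 2 ^ 7) = true := by decide +kernel
theorem permP_blk720 : allRange (guard nn permP) 7 (720 * 2 ^ 7) = true := by decide +kernel
theorem permP_blk721 : allRange (guard nn permP) 7 (721 * 2 ^ 7) = true := by decide +kernel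
theorem permP_blk722 : allRange (guard nn permP) 7 (722 * 2 ^ 7) = true := by decide +kernel
theorem permP_blk723 : allRange (guard nn permP) 7 (723 * 2 ^ 7) = true := by decide +kernel
theorem permP_blk724 : allRange (guard nn permP) 7 (724 * 2 ^ 7) = true := by decide +kernel
theorem permP_blk725 : allRange (guard nn permP) 7 (725 * 2 ^ 7) = true := by decide +kernel
theorem permP_blk726 : allRange (guard nn permP) 7 (726 * 2 ^ 7) = true := by decide +kernel
theorem permP_blk727 : allRange (guard nn permP) 7 (727 * 2 ^ 7) = true := by decide +kernel
theorem permP_blk728 : allRange (guard nn permP) 7 (728 * 2 ^ 7) = true := by decide +kernel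
theorem permP_blk729 : allRange (guard nn permP) 7 (729 * 2 ^ 7) = true := by decide +kernel
theorem permP_blk730 : allRange (guard nn permP) 7 (730 * 2 ^ 7) = true := by decide +kernel
theorem permP_blk731 : allRange (guard nn permP) 7 (731 * 2 ^ 7) = true := by decide +kernel
theorem permP_blk732 : allRange (guard nn permP) 7 (732 * 2 ^ 7) = true := by decide +kernel
theorem permP_blk733 : allRange (guard nn permP) 7 (733 * 2 ^ 7) = true := by decide +kernel
theorem permP_blk734 : allRange (guard nn permP) 7 (734 * 2 ^ 7) = true := by decide +kernel
theorem permP_blk735 : allRange (guard nn permP) 7 (735 * 2 ^ 7) = true := by decide +kernel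
theorem permP_blk736 : allRange (guard nn permP) 7 (736 * 2 ^ 7) = true := by decide +kernel
theorem permP_blk737 : allRange (guard nn permP) 7 (737 * 2 ^ 7) = true := by decide +kernel
theorem permP_blk738 : allRange (guard nn permP) 7 (738 * 2 ^ 7) = true := by decide +kernel
theorem permP_blk739 : allRange (guard nn permP) 7 (739 * 2 ^ 7) = true := by decide +kernel
theorem permP_blk740 : allRange (guard nn permP) 7 (740 * 2 ^ 7) = true := by decide +kernel
theorem permP_blk741 : allRange (guard nn permP) 7 (741 * 2 ^ 7) = true := by decide +kernel
theorem permP_blk742 : allRange (guard nn permP) 7 (742 * 2 ^ 7) = true := by decide +kernel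
theorem permP_blk743 : allRange (guard nn permP) 7 (743 * 2 ^ 7) = true := by decide +kernel
theorem permP_blk744 : allRange (guard nn permP) 7 (744 * 2 ^ 7) = true := by decide +kernel
theorem permP_blk745 : allRange (guard nn permP) 7 (745 * 2 ^ 7) = true := by decide +kernel
theorem permP_blk746 : allRange (guard nn permP) 7 (746 * 2 ^ 7) = true := by decide +kernel
theorem permP_blk747 : allRange (guard nn permP) 7 (747 * 2 ^ 7) = true := by decide +kernel
theorem permP_blk748 : allRange (guard nn permP) 7 (748 * 2 ^ 7) = true := by decide +kernel
theorem permP_blk749 : allRange (guard nn permP) 7 (749 * 2 ^ 7) = true := by decide +kernel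
theorem permP_blk750 : allRange (guard nn permP) 7 (750 * 2 ^ 7) = true := by decide +kernel
theorem permP_blk751 : allRange (guard nn permP) 7 (751 * 2 ^ 7) = true := by decide +kernel
theorem permP_blk752 : allRange (guard nn permP) 7 (752 * 2 ^ 7) = true := by decide +kernel
theorem permP_blk753 : allRange (guard nn permP) 7 (753 * 2 ^ 7) = true := by decide +kernel
theorem permP_blk754 : allRange (guard nn permP) 7 (754 * 2 ^ 7) = true := by decide +kernel
theorem permP_blk755 : allRange (guard nn permP) 7 (755 * 2 ^ 7) = true := by decide +kernel
theorem permP_blk756 : allRange (guard nn permP) 7 (756 * 2 ^ 7) = true := by decide +kernel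
theorem permP_blk757 : allRange (guard nn permP) 7 (757 * 2 ^ 7) = true := by decide +kernel
theorem permP_blk758 : allRange (guard nn permP) 7 (758 * 2 ^ 7) = true := by decide +kernel
theorem permP_blk759 : allRange (guard nn permP) 7 (759 * 2 ^ 7) = true := by decide +kernel
theorem permP_blk760 : allRange (guard nn permP) 7 (760 * 2 ^ 7) = true := by decide +kernel
theorem permP_blk761 : allRange (guard nn permP) 7 (761 * 2 ^ 7) = true := by decide +kernel
theorem permP_blk762 : allRange (guard nn permP) 7 (762 * 2 ^ 7) = true := by decide +kernel
theorem permP_blk763 : allRange (guard nn permP) 7 (763 * 2 ^ 7) = true := by decide +kernel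
theorem permP_blk764 : allRange (guard nn permP) 7 (764 * 2 ^ 7) = true := by decide +kernel
theorem permP_blk765 : allRange (guard nn permP) 7 (765 * 2 ^ 7) = true := by decide +kernel
theorem permP_blk766 : allRange (guard nn permP) 7 (766 * 2 ^ 7) = true := by decide +kernel
theorem permP_blk767 : allRange (guard nn permP) 7 (767 * 2 ^ 7) = true := by decide +kernel
theorem permP_f11 : ∀ k, 704 ≤ k → k < 768 → allRange (guard nn permP) 7 (k * 2 ^ 7) = true := by
  intro k h1 h2
  interval_cases k
  · exact permP_blk704
  · exact permP_blk705
  · exact permP_blk706
  · exact permP_blk707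
  · exact permP_blk708
  · exact permP_blk709
  · exact permP_blk710
  · exact permP_blk711
  · exact permP_blk712
  · exact permP_blk713
  · exact permP_blk714
  · exact permP_blk715
  · exact permP_blk716
  · exact permP_blk717
  · exact permP_blk718
  · exact permP_blk719
  · exact permP_blk720
  · exact permP_blk721
  · exact permP_blk722
  · exact permP_blk723
  · exact permP_blk724
  · exact permP_blk725
  · exact permP_blk726
  · exact permP_blk727
  · exact permP_blk728
  · exact permP_blk729
  · exact permP_blk730
  · exact permP_blk731
  · exact permP_blk732
  · exact permP_blk733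
  · exact permP_blk734
  · exact permP_blk735
  · exact permP_blk736
  · exact permP_blk737
  · exact permP_blk738
  · exact permP_blk739
  · exact permP_blk740
  · exact permP_blk741
  · exact permP_blk742
  · exact permP_blk743
  · exact permP_blk744
  · exact permP_blk745
  · exact permP_blk746
  · exact permP_blk747
  · exact permP_blk748
  · exact permP_blk749
  · exact permP_blk750
  · exact permP_blk751
  · exact permP_blk752
  · exact permP_blk753
  · exact permP_blk754
  · exact permP_blk755
  · exact permP_blk756
  · exact permP_blk757
  · exact permP_blk758
  · exact permP_blk759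
  · exact permP_blk760
  · exact permP_blk761
  · exact permP_blk762
  · exact permP_blk763
  · exact permP_blk764
  · exact permP_blk765
  · exact permP_blk766
  · exact permP_blk767

end Cfsg.Agent.Lib.Helper28.ON122760
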