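import Cfsg.Agent.Lib.Helper28.ON122760.Defs

set_option autoImplicit false
set_option linter.unusedVariables false
set_option Elab.async false

namespace Cfsg.Agent.Lib.Helper28.ON122760

open Cfsg.Spor.ON (Gen)
open Cfsg.Agent.Lib.Helper28.TC
open Cfsg.Agent.Lib.Helper28.TC2

theorem permP_blk768 : allRange (guard nn permP) 7 (768 * 2 ^ 7) = true := by decide +kernel
theorem permP_blk769 : allRange (guard nn permP) 7 (769 * 2 ^ 7) = true := by decide +kernel
theorem permP_blk770 : allRange (guard nn permP) 7 (770 * 2 ^ 7) = true := by decide +kernel
theorem permP_blk771 : allRange (guard nn permP) 7 (771 * 2 ^ 7) = true := by decide +kernel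
theorem permP_blk772 : allRange (guard nn permP) 7 (772 * 2 ^ 7) = true := by decide +kernel
theorem permP_blk773 : allRange (guard nn permP) 7 (773 * 2 ^ 7) = true := by decide +kernel
theorem permP_blk774 : allRange (guard nn permP) 7 (774 * 2 ^ 7) = true := by decide +kernel
theorem permP_blk775 : allRange (guard nn permP) 7 (775 * 2 ^ 7) = true := by decide +kernel
theorem permP_blk776 : allRange (guard nn permP) 7 (776 * 2 ^ 7) = true := by decide +kernel
theorem permP_blk777 : allRange (guard nn permP) 7 (777 * 2 ^ 7) = true := by decide +kernel
theorem permP_blk778 : allRange (guard nn permP) 7 (778 * 2 ^ 7) = true := by decide +kernel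
theorem permP_blk779 : allRange (guard nn permP) 7 (779 * 2 ^ 7) = true := by decide +kernel
theorem permP_blk780 : allRange (guard nn permP) 7 (780 * 2 ^ 7) = true := by decide +kernel
theorem permP_blk781 : allRange (guard nn permP) 7 (781 * 2 ^ 7) = true := by decide +kernel
theorem permP_blk782 : allRange (guard nn permP) 7 (782 * 2 ^ 7) = true := by decide +kernel
theorem permP_blk783 : allRange (guard nn permP) 7 (783 * 2 ^ 7) = true := by decide +kernel
theorem permP_blk784 : allRange (guard nn permP) 7 (784 * 2 ^ 7) = true := by decide +kernel
theorem permP_blk785 : allRange (guard nn permP) 7 (785 * 2 ^ 7) = true := by decide +kernel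
theorem permP_blk786 : allRange (guard nn permP) 7 (786 * 2 ^ 7) = true := by decide +kernel
theorem permP_blk787 : allRange (guard nn permP) 7 (787 * 2 ^ 7) = true := by decide +kernel
theorem permP_blk788 : allRange (guard nn permP) 7 (788 * 2 ^ 7) = true := by decide +kernel
theorem permP_blk789 : allRange (guard nn permP) 7 (789 * 2 ^ 7) = true := by decide +kernel
theorem permP_blk790 : allRange (guard nn permP) 7 (790 * 2 ^ 7) = true := by decide +kernel
theorem permP_blk791 : allRange (guard nn permP) 7 (791 * 2 ^ 7) = true := by decide +kernel
theorem permP_blk792 : allRange (guard nn permP) 7 (792 * 2 ^ 7) = true := by decide +kernel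
theorem permP_blk793 : allRange (guard nn permP) 7 (793 * 2 ^ 7) = true := by decide +kernel
theorem permP_blk794 : allRange (guard nn permP) 7 (794 * 2 ^ 7) = true := by decide +kernel
theorem permP_blk795 : allRange (guard nn permP) 7 (795 * 2 ^ 7) = true := by decide +kernel
theorem permP_blk796 : allRange (guard nn permP) 7 (796 * 2 ^ 7) = true := by decide +kernel
theorem permP_blk797 : allRange (guard nn permP) 7 (797 * 2 ^ 7) = true := by decide +kernel
theorem permP_blk798 : allRange (guard nn permP) 7 (798 * 2 ^ 7) = true := by decide +kernel
theorem permP_blk799 : allRange (guard nn permP) 7 (799 * 2 ^ 7) = true := by decide +kernel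
theorem permP_blk800 : allRange (guard nn permP) 7 (800 * 2 ^ 7) = true := by decide +kernel
theorem permP_blk801 : allRange (guard nn permP) 7 (801 * 2 ^ 7) = true := by decide +kernel
theorem permP_blk802 : allRange (guard nn permP) 7 (802 * 2 ^ 7) = true := by decide +kernel
theorem permP_blk803 : allRange (guard nn permP) 7 (803 * 2 ^ 7) = true := by decide +kernel
theorem permP_blk804 : allRange (guard nn permP) 7 (804 * 2 ^ 7) = true := by decide +kernel
theorem permP_blk805 : allRange (guard nn permP) 7 (805 * 2 ^ 7) = true := by decide +kernel
theorem permP_blk806 : allRange (guard nn permP) 7 (806 * 2 ^ 7) = true := by decide +kernel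
theorem permP_blk807 : allRange (guard nn permP) 7 (807 * 2 ^ 7) = true := by decide +kernel
theorem permP_blk808 : allRange (guard nn permP) 7 (808 * 2 ^ 7) = true := by decide +kernel
theorem permP_blk809 : allRange (guard nn permP) 7 (809 * 2 ^ 7) = true := by decide +kernel
theorem permP_blk810 : allRange (guard nn permP) 7 (810 * 2 ^ 7) = true := by decide +kernel
theorem permP_blk811 : allRange (guard nn permP) 7 (811 * 2 ^ 7) = true := by decide +kernel
theorem permP_blk812 : allRange (guard nn permP) 7 (812 * 2 ^ 7) = true := by decide +kernel
theorem permP_blk813 : allRange (guard nn permP) 7 (813 * 2 ^ 7) = true := by decide +kernel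
theorem permP_blk814 : allRange (guard nn permP) 7 (814 * 2 ^ 7) = true := by decide +kernel
theorem permP_blk815 : allRange (guard nn permP) 7 (815 * 2 ^ 7) = true := by decide +kernel
theorem permP_blk816 : allRange (guard nn permP) 7 (816 * 2 ^ 7) = true := by decide +kernel
theorem permP_blk817 : allRange (guard nn permP) 7 (817 * 2 ^ 7) = true := by decide +kernel
theorem permP_blk818 : allRange (guard nn permP) 7 (818 * 2 ^ 7) = true := by decide +kernel
theorem permP_blk819 : allRange (guard nn permP) 7 (819 * 2 ^ 7) = true := by decide +kernel
theorem permP_blk820 : allRange (guard nn permP) 7 (820 * 2 ^ 7) = true := by decide +kernel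
theorem permP_blk821 : allRange (guard nn permP) 7 (821 * 2 ^ 7) = true := by decide +kernel
theorem permP_blk822 : allRange (guard nn permP) 7 (822 * 2 ^ 7) = true := by decide +kernel
theorem permP_blk823 : allRange (guard nn permP) 7 (823 * 2 ^ 7) = true := by decide +kernel
theorem permP_blk824 : allRange (guard nn permP) 7 (824 * 2 ^ 7) = true := by decide +kernel
theorem permP_blk825 : allRange (guard nn permP) 7 (825 * 2 ^ 7) = true := by decide +kernel
theorem permP_blk826 : allRange (guard nn permP) 7 (826 * 2 ^ 7) = true := by decide +kernel
theorem permP_blk827 : allRange (guard nn permP) 7 (827 * 2 ^ 7) = true := by decide +kernel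
theorem permP_blk828 : allRange (guard nn permP) 7 (828 * 2 ^ 7) = true := by decide +kernel
theorem permP_blk829 : allRange (guard nn permP) 7 (829 * 2 ^ 7) = true := by decide +kernel
theorem permP_blk830 : allRange (guard nn permP) 7 (830 * 2 ^ 7) = true := by decide +kernel
theorem permP_blk831 : allRange (guard nn permP) 7 (831 * 2 ^ 7) = true := by decide +kernel
theorem permP_f12 : ∀ k, 768 ≤ k → k < 832 → allRange (guard nn permP) 7 (k * 2 ^ 7) = true := by
  intro k h1 h2
  interval_cases k
  · exact permP_blk768
  · exact permP_blk769
  · exact permP_blk770
  · exact permP_blk771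
  · exact permP_blk772
  · exact permP_blk773
  · exact permP_blk774
  · exact permP_blk775
  · exact permP_blk776
  · exact permP_blk777
  · exact permP_blk778
  · exact permP_blk779
  · exact permP_blk780
  · exact permP_blk781
  · exact permP_blk782
  · exact permP_blk783
  · exact permP_blk784
  · exact permP_blk785
  · exact permP_blk786
  · exact permP_blk787
  · exact permP_blk788
  · exact permP_blk789
  · exact permP_blk790
  · exact permP_blk791
  · exact permP_blk792
  · exact permP_blk793
  · exact permP_blk794
  · exact permP_blk795
  · exact permP_blk796
  · exact permP_blk797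
  · exact permP_blk798
  · exact permP_blk799
  · exact permP_blk800
  · exact permP_blk801
  · exact permP_blk802
  · exact permP_blk803
  · exact permP_blk804
  · exact permP_blk805
  · exact permP_blk806
  · exact permP_blk807
  · exact permP_blk808
  · exact permP_blk809
  · exact permP_blk810
  · exact permP_blk811
  · exact permP_blk812
  · exact permP_blk813
  · exact permP_blk814
  · exact permP_blk815
  · exact permP_blk816
  · exact permP_blk817
  · exact permP_blk818
  · exact permP_blk819
  · exact permP_blk820
  · exact permP_blk821
  · exact permP_blk822
  · exact permP_blk823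
  · exact permP_blk824
  · exact permP_blk825
  · exact permP_blk826
  · exact permP_blk827
  · exact permP_blk828
  · exact permP_blk829
  · exact permP_blk830
  · exact permP_blk831

end Cfsg.Agent.Lib.Helper28.ON122760
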