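import Cfsg.Agent.Lib.Helper28.ON122760.Defs

set_option autoImplicit false
set_option linter.unusedVariables false
set_option Elab.async false

namespace Cfsg.Agent.Lib.Helper28.ON122760

open Cfsg.Spor.ON (Gen)
open Cfsg.Agent.Lib.Helper28.TC
open Cfsg.Agent.Lib.Helper28.TC2

theorem permP_blk832 : allRange (guard nn permP) 7 (832 * 2 ^ 7) = true := by decide +kernel
theorem permP_blk833 : allRange (guard nn permP) 7 (833 * 2 ^ 7) = true := by decide +kernel
theorem permP_blk834 : allRange (guard nn permP) 7 (834 * 2 ^ 7) = true := by decide +kernel
theorem permP_blk835 : allRange (guard nn permP) 7 (835 * 2 ^ 7) = true := by decide +kernel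
theorem permP_blk836 : allRange (guard nn permP) 7 (836 * 2 ^ 7) = true := by decide +kernel
theorem permP_blk837 : allRange (guard nn permP) 7 (837 * 2 ^ 7) = true := by decide +kernel
theorem permP_blk838 : allRange (guard nn permP) 7 (838 * 2 ^ 7) = true := by decide +kernel
theorem permP_blk839 : allRange (guard nn permP) 7 (839 * 2 ^ 7) = true := by decide +kernel
theorem permP_blk840 : allRange (guard nn permP) 7 (840 * 2 ^ 7) = true := by decide +kernel
theorem permP_blk841 : allRange (guard nn permP) 7 (841 * 2 ^ 7) = true := by decide +kernel
theorem permP_blk842 : allRange (guard nn permP) 7 (842 * 2 ^ 7) = true := by decide +kernel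
theorem permP_blk843 : allRange (guard nn permP) 7 (843 * 2 ^ 7) = true := by decide +kernel
theorem permP_blk844 : allRange (guard nn permP) 7 (844 * 2 ^ 7) = true := by decide +kernel
theorem permP_blk845 : allRange (guard nn permP) 7 (845 * 2 ^ 7) = true := by decide +kernel
theorem permP_blk846 : allRange (guard nn permP) 7 (846 * 2 ^ 7) = true := by decide +kernel
theorem permP_blk847 : allRange (guard nn permP) 7 (847 * 2 ^ 7) = true := by decide +kernel
theorem permP_blk848 : allRange (guard nn permP) 7 (848 * 2 ^ 7) = true := by decide +kernel
theorem permP_blk849 : allRange (guard nn permP) 7 (849 * 2 ^ 7) = true := by decide +kernel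
theorem permP_blk850 : allRange (guard nn permP) 7 (850 * 2 ^ 7) = true := by decide +kernel
theorem permP_blk851 : allRange (guard nn permP) 7 (851 * 2 ^ 7) = true := by decide +kernel
theorem permP_blk852 : allRange (guard nn permP) 7 (852 * 2 ^ 7) = true := by decide +kernel
theorem permP_blk853 : allRange (guard nn permP) 7 (853 * 2 ^ 7) = true := by decide +kernel
theorem permP_blk854 : allRange (guard nn permP) 7 (854 * 2 ^ 7) = true := by decide +kernel
theorem permP_blk855 : allRange (guard nn permP) 7 (855 * 2 ^ 7) = true := by decide +kernel
theorem permP_blk856 : allRange (guard nn permP) 7 (856 * 2 ^ 7) = true := by decide +kernel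
theorem permP_blk857 : allRange (guard nn permP) 7 (857 * 2 ^ 7) = true := by decide +kernel
theorem permP_blk858 : allRange (guard nn permP) 7 (858 * 2 ^ 7) = true := by decide +kernel
theorem permP_blk859 : allRange (guard nn permP) 7 (859 * 2 ^ 7) = true := by decide +kernel
theorem permP_blk860 : allRange (guard nn permP) 7 (860 * 2 ^ 7) = true := by decide +kernel
theorem permP_blk861 : allRange (guard nn permP) 7 (861 * 2 ^ 7) = true := by decide +kernel
theorem permP_blk862 : allRange (guard nn permP) 7 (862 * 2 ^ 7) = true := by decide +kernel
theorem permP_blk863 : allRange (guard nn permP) 7 (863 * 2 ^ 7) = true := by decide +kernel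
theorem permP_blk864 : allRange (guard nn permP) 7 (864 * 2 ^ 7) = true := by decide +kernel
theorem permP_blk865 : allRange (guard nn permP) 7 (865 * 2 ^ 7) = true := by decide +kernel
theorem permP_blk866 : allRange (guard nn permP) 7 (866 * 2 ^ 7) = true := by decide +kernel
theorem permP_blk867 : allRange (guard nn permP) 7 (867 * 2 ^ 7) = true := by decide +kernel
theorem permP_blk868 : allRange (guard nn permP) 7 (868 * 2 ^ 7) = true := by decide +kernel
theorem permP_blk869 : allRange (guard nn permP) 7 (869 * 2 ^ 7) = true := by decide +kernel
theorem permP_blk870 : allRange (guard nn permP) 7 (870 * 2 ^ 7) = true := by decide +kernel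
theorem permP_blk871 : allRange (guard nn permP) 7 (871 * 2 ^ 7) = true := by decide +kernel
theorem permP_blk872 : allRange (guard nn permP) 7 (872 * 2 ^ 7) = true := by decide +kernel
theorem permP_blk873 : allRange (guard nn permP) 7 (873 * 2 ^ 7) = true := by decide +kernel
theorem permP_blk874 : allRange (guard nn permP) 7 (874 * 2 ^ 7) = true := by decide +kernel
theorem permP_blk875 : allRange (guard nn permP) 7 (875 * 2 ^ 7) = true := by decide +kernel
theorem permP_blk876 : allRange (guard nn permP) 7 (876 * 2 ^ 7) = true := by decide +kernel
theorem permP_blk877 : allRange (guard nn permP) 7 (877 * 2 ^ 7) = true := by decide +kernel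
theorem permP_blk878 : allRange (guard nn permP) 7 (878 * 2 ^ 7) = true := by decide +kernel
theorem permP_blk879 : allRange (guard nn permP) 7 (879 * 2 ^ 7) = true := by decide +kernel
theorem permP_blk880 : allRange (guard nn permP) 7 (880 * 2 ^ 7) = true := by decide +kernel
theorem permP_blk881 : allRange (guard nn permP) 7 (881 * 2 ^ 7) = true := by decide +kernel
theorem permP_blk882 : allRange (guard nn permP) 7 (882 * 2 ^ 7) = true := by decide +kernel
theorem permP_blk883 : allRange (guard nn permP) 7 (883 * 2 ^ 7) = true := by decide +kernel
theorem permP_blk884 : allRange (guard nn permP) 7 (884 * 2 ^ 7) = true := by decide +kernel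
theorem permP_blk885 : allRange (guard nn permP) 7 (885 * 2 ^ 7) = true := by decide +kernel
theorem permP_blk886 : allRange (guard nn permP) 7 (886 * 2 ^ 7) = true := by decide +kernel
theorem permP_blk887 : allRange (guard nn permP) 7 (887 * 2 ^ 7) = true := by decide +kernel
theorem permP_blk888 : allRange (guard nn permP) 7 (888 * 2 ^ 7) = true := by decide +kernel
theorem permP_blk889 : allRange (guard nn permP) 7 (889 * 2 ^ 7) = true := by decide +kernel
theorem permP_blk890 : allRange (guard nn permP) 7 (890 * 2 ^ 7) = true := by decide +kernel
theorem permP_blk891 : allRange (guard nn permP) 7 (891 * 2 ^ 7) = true := by decide +kernel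
theorem permP_blk892 : allRange (guard nn permP) 7 (892 * 2 ^ 7) = true := by decide +kernel
theorem permP_blk893 : allRange (guard nn permP) 7 (893 * 2 ^ 7) = true := by decide +kernel
theorem permP_blk894 : allRange (guard nn permP) 7 (894 * 2 ^ 7) = true := by decide +kernel
theorem permP_blk895 : allRange (guard nn permP) 7 (895 * 2 ^ 7) = true := by decide +kernel
theorem permP_f13 : ∀ k, 832 ≤ k → k < 896 → allRange (guard nn permP) 7 (k * 2 ^ 7) = true := by
  intro k h1 h2
  interval_cases k
  · exact permP_blk832
  · exact permP_blk833
  · exact permP_blk834
  · exact permP_blk835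
  · exact permP_blk836
  · exact permP_blk837
  · exact permP_blk838
  · exact permP_blk839
  · exact permP_blk840
  · exact permP_blk841
  · exact permP_blk842
  · exact permP_blk843
  · exact permP_blk844
  · exact permP_blk845
  · exact permP_blk846
  · exact permP_blk847
  · exact permP_blk848
  · exact permP_blk849
  · exact permP_blk850
  · exact permP_blk851
  · exact permP_blk852
  · exact permP_blk853
  · exact permP_blk854
  · exact permP_blk855
  · exact permP_blk856
  · exact permP_blk857
  · exact permP_blk858
  · exact permP_blk859
  · exact permP_blk860
  · exact permP_blk861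
  · exact permP_blk862
  · exact permP_blk863
  · exact permP_blk864
  · exact permP_blk865
  · exact permP_blk866
  · exact permP_blk867
  · exact permP_blk868
  · exact permP_blk869
  · exact permP_blk870
  · exact permP_blk871
  · exact permP_blk872
  · exact permP_blk873
  · exact permP_blk874
  · exact permP_blk875
  · exact permP_blk876
  · exact permP_blk877
  · exact permP_blk878
  · exact permP_blk879
  · exact permP_blk880
  · exact permP_blk881
  · exact permP_blk882
  · exact permP_blk883
  · exact permP_blk884
  · exact permP_blk885
  · exact permP_blk886
  · exact permP_blk887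
  · exact permP_blk888
  · exact permP_blk889
  · exact permP_blk890
  · exact permP_blk891
  · exact permP_blk892
  · exact permP_blk893
  · exact permP_blk894
  · exact permP_blk895

end Cfsg.Agent.Lib.Helper28.ON122760
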