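import Cfsg.Agent.Lib.Helper28.ON122760.Defs

set_option autoImplicit false
set_option linter.unusedVariables false
set_option Elab.async false

namespace Cfsg.Agent.Lib.Helper28.ON122760

open Cfsg.Spor.ON (Gen)
open Cfsg.Agent.Lib.Helper28.TC
open Cfsg.Agent.Lib.Helper28.TC2

theorem permP_blk320 : allRange (guard nn permP) 7 (320 * 2 ^ 7) = true := by decide +kernel
theorem permP_blk321 : allRange (guard nn permP) 7 (321 * 2 ^ 7) = true := by decide +kernel
theorem permP_blk322 : allRange (guard nn permP) 7 (322 * 2 ^ 7) = true := by decide +kernel
theorem permP_blk323 : allRange (guard nn permP) 7 (323 * 2 ^ 7) = true := by decide +kernel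
theorem permP_blk324 : allRange (guard nn permP) 7 (324 * 2 ^ 7) = true := by decide +kernel
theorem permP_blk325 : allRange (guard nn permP) 7 (325 * 2 ^ 7) = true := by decide +kernel
theorem permP_blk326 : allRange (guard nn permP) 7 (326 * 2 ^ 7) = true := by decide +kernel
theorem permP_blk327 : allRange (guard nn permP) 7 (327 * 2 ^ 7) = true := by decide +kernel
theorem permP_blk328 : allRange (guard nn permP) 7 (328 * 2 ^ 7) = true := by decide +kernel
theorem permP_blk329 : allRange (guard nn permP) 7 (329 * 2 ^ 7) = true := by decide +kernel
theorem permP_blk330 : allRange (guard nn permP) 7 (330 * 2 ^ 7) = true := by decide +kernel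
theorem permP_blk331 : allRange (guard nn permP) 7 (331 * 2 ^ 7) = true := by decide +kernel
theorem permP_blk332 : allRange (guard nn permP) 7 (332 * 2 ^ 7) = true := by decide +kernel
theorem permP_blk333 : allRange (guard nn permP) 7 (333 * 2 ^ 7) = true := by decide +kernel
theorem permP_blk334 : allRange (guard nn permP) 7 (334 * 2 ^ 7) = true := by decide +kernel
theorem permP_blk335 : allRange (guard nn permP) 7 (335 * 2 ^ 7) = true := by decide +kernel
theorem permP_blk336 : allRange (guard nn permP) 7 (336 * 2 ^ 7) = true := by decide +kernel
theorem permP_blk337 : allRange (guard nn permP) 7 (337 * 2 ^ 7) = true := by decide +kernel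
theorem permP_blk338 : allRange (guard nn permP) 7 (338 * 2 ^ 7) = true := by decide +kernel
theorem permP_blk339 : allRange (guard nn permP) 7 (339 * 2 ^ 7) = true := by decide +kernel
theorem permP_blk340 : allRange (guard nn permP) 7 (340 * 2 ^ 7) = true := by decide +kernel
theorem permP_blk341 : allRange (guard nn permP) 7 (341 * 2 ^ 7) = true := by decide +kernel
theorem permP_blk342 : allRange (guard nn permP) 7 (342 * 2 ^ 7) = true := by decide +kernel
theorem permP_blk343 : allRange (guard nn permP) 7 (343 * 2 ^ 7) = true := by decide +kernel
theorem permP_blk344 : allRange (guard nn permP) 7 (344 * 2 ^ 7) = true := by decide +kernel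
theorem permP_blk345 : allRange (guard nn permP) 7 (345 * 2 ^ 7) = true := by decide +kernel
theorem permP_blk346 : allRange (guard nn permP) 7 (346 * 2 ^ 7) = true := by decide +kernel
theorem permP_blk347 : allRange (guard nn permP) 7 (347 * 2 ^ 7) = true := by decide +kernel
theorem permP_blk348 : allRange (guard nn permP) 7 (348 * 2 ^ 7) = true := by decide +kernel
theorem permP_blk349 : allRange (guard nn permP) 7 (349 * 2 ^ 7) = true := by decide +kernel
theorem permP_blk350 : allRange (guard nn permP) 7 (350 * 2 ^ 7) = true := by decide +kernel
theorem permP_blk351 : allRange (guard nn permP) 7 (351 * 2 ^ 7) = true := by decide +kernel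
theorem permP_blk352 : allRange (guard nn permP) 7 (352 * 2 ^ 7) = true := by decide +kernel
theorem permP_blk353 : allRange (guard nn permP) 7 (353 * 2 ^ 7) = true := by decide +kernel
theorem permP_blk354 : allRange (guard nn permP) 7 (354 * 2 ^ 7) = true := by decide +kernel
theorem permP_blk355 : allRange (guard nn permP) 7 (355 * 2 ^ 7) = true := by decide +kernel
theorem permP_blk356 : allRange (guard nn permP) 7 (356 * 2 ^ 7) = true := by decide +kernel
theorem permP_blk357 : allRange (guard nn permP) 7 (357 * 2 ^ 7) = true := by decide +kernel
theorem permP_blk358 : allRange (guard nn permP) 7 (358 * 2 ^ 7) = true := by decide +kernel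
theorem permP_blk359 : allRange (guard nn permP) 7 (359 * 2 ^ 7) = true := by decide +kernel
theorem permP_blk360 : allRange (guard nn permP) 7 (360 * 2 ^ 7) = true := by decide +kernel
theorem permP_blk361 : allRange (guard nn permP) 7 (361 * 2 ^ 7) = true := by decide +kernel
theorem permP_blk362 : allRange (guard nn permP) 7 (362 * 2 ^ 7) = true := by decide +kernel
theorem permP_blk363 : allRange (guard nn permP) 7 (363 * 2 ^ 7) = true := by decide +kernel
theorem permP_blk364 : allRange (guard nn permP) 7 (364 * 2 ^ 7) = true := by decide +kernel
theorem permP_blk365 : allRange (guard nn permP) 7 (365 * 2 ^ 7) = true := by decide +kernel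
theorem permP_blk366 : allRange (guard nn permP) 7 (366 * 2 ^ 7) = true := by decide +kernel
theorem permP_blk367 : allRange (guard nn permP) 7 (367 * 2 ^ 7) = true := by decide +kernel
theorem permP_blk368 : allRange (guard nn permP) 7 (368 * 2 ^ 7) = true := by decide +kernel
theorem permP_blk369 : allRange (guard nn permP) 7 (369 * 2 ^ 7) = true := by decide +kernel
theorem permP_blk370 : allRange (guard nn permP) 7 (370 * 2 ^ 7) = true := by decide +kernel
theorem permP_blk371 : allRange (guard nn permP) 7 (371 * 2 ^ 7) = true := by decide +kernel
theorem permP_blk372 : allRange (guard nn permP) 7 (372 * 2 ^ 7) = true := by decide +kernel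
theorem permP_blk373 : allRange (guard nn permP) 7 (373 * 2 ^ 7) = true := by decide +kernel
theorem permP_blk374 : allRange (guard nn permP) 7 (374 * 2 ^ 7) = true := by decide +kernel
theorem permP_blk375 : allRange (guard nn permP) 7 (375 * 2 ^ 7) = true := by decide +kernel
theorem permP_blk376 : allRange (guard nn permP) 7 (376 * 2 ^ 7) = true := by decide +kernel
theorem permP_blk377 : allRange (guard nn permP) 7 (377 * 2 ^ 7) = true := by decide +kernel
theorem permP_blk378 : allRange (guard nn permP) 7 (378 * 2 ^ 7) = true := by decide +kernel
theorem permP_blk379 : allRange (guard nn permP) 7 (379 * 2 ^ 7) = true := by decide +kernel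
theorem permP_blk380 : allRange (guard nn permP) 7 (380 * 2 ^ 7) = true := by decide +kernel
theorem permP_blk381 : allRange (guard nn permP) 7 (381 * 2 ^ 7) = true := by decide +kernel
theorem permP_blk382 : allRange (guard nn permP) 7 (382 * 2 ^ 7) = true := by decide +kernel
theorem permP_blk383 : allRange (guard nn permP) 7 (383 * 2 ^ 7) = true := by decide +kernel
theorem permP_f5 : ∀ k, 320 ≤ k → k < 384 → allRange (guard nn permP) 7 (k * 2 ^ 7) = true := by
  intro k h1 h2
  interval_cases k
  · exact permP_blk320
  · exact permP_blk321
  · exact permP_blk322
  · exact permP_blk323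
  · exact permP_blk324
  · exact permP_blk325
  · exact permP_blk326
  · exact permP_blk327
  · exact permP_blk328
  · exact permP_blk329
  · exact permP_blk330
  · exact permP_blk331
  · exact permP_blk332
  · exact permP_blk333
  · exact permP_blk334
  · exact permP_blk335
  · exact permP_blk336
  · exact permP_blk337
  · exact permP_blk338
  · exact permP_blk339
  · exact permP_blk340
  · exact permP_blk341
  · exact permP_blk342
  · exact permP_blk343
  · exact permP_blk344
  · exact permP_blk345
  · exact permP_blk346
  · exact permP_blk347
  · exact permP_blk348
  · exact permP_blk349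
  · exact permP_blk350
  · exact permP_blk351
  · exact permP_blk352
  · exact permP_blk353
  · exact permP_blk354
  · exact permP_blk355
  · exact permP_blk356
  · exact permP_blk357
  · exact permP_blk358
  · exact permP_blk359
  · exact permP_blk360
  · exact permP_blk361
  · exact permP_blk362
  · exact permP_blk363
  · exact permP_blk364
  · exact permP_blk365
  · exact permP_blk366
  · exact permP_blk367
  · exact permP_blk368
  · exact permP_blk369
  · exact permP_blk370
  · exact permP_blk371
  · exact permP_blk372
  · exact permP_blk373
  · exact permP_blk374
  · exact permP_blk375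
  · exact permP_blk376
  · exact permP_blk377
  · exact permP_blk378
  · exact permP_blk379
  · exact permP_blk380
  · exact permP_blk381
  · exact permP_blk382
  · exact permP_blk383

end Cfsg.Agent.Lib.Helper28.ON122760
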