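import Cfsg.Agent.Lib.Helper28.ON122760.Defs

set_option autoImplicit false
set_option linter.unusedVariables false
set_option Elab.async false

namespace Cfsg.Agent.Lib.Helper28.ON122760

open Cfsg.Spor.ON (Gen)
open Cfsg.Agent.Lib.Helper28.TC
open Cfsg.Agent.Lib.Helper28.TC2

theorem permP_blk384 : allRange (guard nn permP) 7 (384 * 2 ^ 7) = true := by decide +kernel
theorem permP_blk385 : allRange (guard nn permP) 7 (385 * 2 ^ 7) = true := by decide +kernel
theorem permP_blk386 : allRange (guard nn permP) 7 (386 * 2 ^ 7) = true := by decide +kernel
theorem permP_blk387 : allRange (guard nn permP) 7 (387 * 2 ^ 7) = true := by decide +kernel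
theorem permP_blk388 : allRange (guard nn permP) 7 (388 * 2 ^ 7) = true := by decide +kernel
theorem permP_blk389 : allRange (guard nn permP) 7 (389 * 2 ^ 7) = true := by decide +kernel
theorem permP_blk390 : allRange (guard nn permP) 7 (390 * 2 ^ 7) = true := by decide +kernel
theorem permP_blk391 : allRange (guard nn permP) 7 (391 * 2 ^ 7) = true := by decide +kernel
theorem permP_blk392 : allRange (guard nn permP) 7 (392 * 2 ^ 7) = true := by decide +kernel
theorem permP_blk393 : allRange (guard nn permP) 7 (393 * 2 ^ 7) = true := by decide +kernel
theorem permP_blk394 : allRange (guard nn permP) 7 (394 * 2 ^ 7) = true := by decide +kernel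
theorem permP_blk395 : allRange (guard nn permP) 7 (395 * 2 ^ 7) = true := by decide +kernel
theorem permP_blk396 : allRange (guard nn permP) 7 (396 * 2 ^ 7) = true := by decide +kernel
theorem permP_blk397 : allRange (guard nn permP) 7 (397 * 2 ^ 7) = true := by decide +kernel
theorem permP_blk398 : allRange (guard nn permP) 7 (398 * 2 ^ 7) = true := by decide +kernel
theorem permP_blk399 : allRange (guard nn permP) 7 (399 * 2 ^ 7) = true := by decide +kernel
theorem permP_blk400 : allRange (guard nn permP) 7 (400 * 2 ^ 7) = true := by decide +kernel
theorem permP_blk401 : allRange (guard nn permP) 7 (401 * 2 ^ 7) = true := by decide +kernel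
theorem permP_blk402 : allRange (guard nn permP) 7 (402 * 2 ^ 7) = true := by decide +kernel
theorem permP_blk403 : allRange (guard nn permP) 7 (403 * 2 ^ 7) = true := by decide +kernel
theorem permP_blk404 : allRange (guard nn permP) 7 (404 * 2 ^ 7) = true := by decide +kernel
theorem permP_blk405 : allRange (guard nn permP) 7 (405 * 2 ^ 7) = true := by decide +kernel
theorem permP_blk406 : allRange (guard nn permP) 7 (406 * 2 ^ 7) = true := by decide +kernel
theorem permP_blk407 : allRange (guard nn permP) 7 (407 * 2 ^ 7) = true := by decide +kernel
theorem permP_blk408 : allRange (guard nn permP) 7 (408 * 2 ^ 7) = true := by decide +kernel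
theorem permP_blk409 : allRange (guard nn permP) 7 (409 * 2 ^ 7) = true := by decide +kernel
theorem permP_blk410 : allRange (guard nn permP) 7 (410 * 2 ^ 7) = true := by decide +kernel
theorem permP_blk411 : allRange (guard nn permP) 7 (411 * 2 ^ 7) = true := by decide +kernel
theorem permP_blk412 : allRange (guard nn permP) 7 (412 * 2 ^ 7) = true := by decide +kernel
theorem permP_blk413 : allRange (guard nn permP) 7 (413 * 2 ^ 7) = true := by decide +kernel
theorem permP_blk414 : allRange (guard nn permP) 7 (414 * 2 ^ 7) = true := by decide +kernel
theorem permP_blk415 : allRange (guard nn permP) 7 (415 * 2 ^ 7) = true := by decide +kernel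
theorem permP_blk416 : allRange (guard nn permP) 7 (416 * 2 ^ 7) = true := by decide +kernel
theorem permP_blk417 : allRange (guard nn permP) 7 (417 * 2 ^ 7) = true := by decide +kernel
theorem permP_blk418 : allRange (guard nn permP) 7 (418 * 2 ^ 7) = true := by decide +kernel
theorem permP_blk419 : allRange (guard nn permP) 7 (419 * 2 ^ 7) = true := by decide +kernel
theorem permP_blk420 : allRange (guard nn permP) 7 (420 * 2 ^ 7) = true := by decide +kernel
theorem permP_blk421 : allRange (guard nn permP) 7 (421 * 2 ^ 7) = true := by decide +kernel
theorem permP_blk422 : allRange (guard nn permP) 7 (422 * 2 ^ 7) = true := by decide +kernel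
theorem permP_blk423 : allRange (guard nn permP) 7 (423 * 2 ^ 7) = true := by decide +kernel
theorem permP_blk424 : allRange (guard nn permP) 7 (424 * 2 ^ 7) = true := by decide +kernel
theorem permP_blk425 : allRange (guard nn permP) 7 (425 * 2 ^ 7) = true := by decide +kernel
theorem permP_blk426 : allRange (guard nn permP) 7 (426 * 2 ^ 7) = true := by decide +kernel
theorem permP_blk427 : allRange (guard nn permP) 7 (427 * 2 ^ 7) = true := by decide +kernel
theorem permP_blk428 : allRange (guard nn permP) 7 (428 * 2 ^ 7) = true := by decide +kernel
theorem permP_blk429 : allRange (guard nn permP) 7 (429 * 2 ^ 7) = true := by decide +kernel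
theorem permP_blk430 : allRange (guard nn permP) 7 (430 * 2 ^ 7) = true := by decide +kernel
theorem permP_blk431 : allRange (guard nn permP) 7 (431 * 2 ^ 7) = true := by decide +kernel
theorem permP_blk432 : allRange (guard nn permP) 7 (432 * 2 ^ 7) = true := by decide +kernel
theorem permP_blk433 : allRange (guard nn permP) 7 (433 * 2 ^ 7) = true := by decide +kernel
theorem permP_blk434 : allRange (guard nn permP) 7 (434 * 2 ^ 7) = true := by decide +kernel
theorem permP_blk435 : allRange (guard nn permP) 7 (435 * 2 ^ 7) = true := by decide +kernel
theorem permP_blk436 : allRange (guard nn permP) 7 (436 * 2 ^ 7) = true := by decide +kernel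
theorem permP_blk437 : allRange (guard nn permP) 7 (437 * 2 ^ 7) = true := by decide +kernel
theorem permP_blk438 : allRange (guard nn permP) 7 (438 * 2 ^ 7) = true := by decide +kernel
theorem permP_blk439 : allRange (guard nn permP) 7 (439 * 2 ^ 7) = true := by decide +kernel
theorem permP_blk440 : allRange (guard nn permP) 7 (440 * 2 ^ 7) = true := by decide +kernel
theorem permP_blk441 : allRange (guard nn permP) 7 (441 * 2 ^ 7) = true := by decide +kernel
theorem permP_blk442 : allRange (guard nn permP) 7 (442 * 2 ^ 7) = true := by decide +kernel
theorem permP_blk443 : allRange (guard nn permP) 7 (443 * 2 ^ 7) = true := by decide +kernel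
theorem permP_blk444 : allRange (guard nn permP) 7 (444 * 2 ^ 7) = true := by decide +kernel
theorem permP_blk445 : allRange (guard nn permP) 7 (445 * 2 ^ 7) = true := by decide +kernel
theorem permP_blk446 : allRange (guard nn permP) 7 (446 * 2 ^ 7) = true := by decide +kernel
theorem permP_blk447 : allRange (guard nn permP) 7 (447 * 2 ^ 7) = true := by decide +kernel
theorem permP_f6 : ∀ k, 384 ≤ k → k < 448 → allRange (guard nn permP) 7 (k * 2 ^ 7) = true := by
  intro k h1 h2
  interval_cases k
  · exact permP_blk384
  · exact permP_blk385
  · exact permP_blk386
  · exact permP_blk387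
  · exact permP_blk388
  · exact permP_blk389
  · exact permP_blk390
  · exact permP_blk391
  · exact permP_blk392
  · exact permP_blk393
  · exact permP_blk394
  · exact permP_blk395
  · exact permP_blk396
  · exact permP_blk397
  · exact permP_blk398
  · exact permP_blk399
  · exact permP_blk400
  · exact permP_blk401
  · exact permP_blk402
  · exact permP_blk403
  · exact permP_blk404
  · exact permP_blk405
  · exact permP_blk406
  · exact permP_blk407
  · exact permP_blk408
  · exact permP_blk409
  · exact permP_blk410
  · exact permP_blk411
  · exact permP_blk412
  · exact permP_blk413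
  · exact permP_blk414
  · exact permP_blk415
  · exact permP_blk416
  · exact permP_blk417
  · exact permP_blk418
  · exact permP_blk419
  · exact permP_blk420
  · exact permP_blk421
  · exact permP_blk422
  · exact permP_blk423
  · exact permP_blk424
  · exact permP_blk425
  · exact permP_blk426
  · exact permP_blk427
  · exact permP_blk428
  · exact permP_blk429
  · exact permP_blk430
  · exact permP_blk431
  · exact permP_blk432
  · exact permP_blk433
  · exact permP_blk434
  · exact permP_blk435
  · exact permP_blk436
  · exact permP_blk437
  · exact permP_blk438
  · exact permP_blk439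
  · exact permP_blk440
  · exact permP_blk441
  · exact permP_blk442
  · exact permP_blk443
  · exact permP_blk444
  · exact permP_blk445
  · exact permP_blk446
  · exact permP_blk447

end Cfsg.Agent.Lib.Helper28.ON122760
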