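import Cfsg.Agent.Lib.Helper28.ON122760.Defs

set_option autoImplicit false
set_option linter.unusedVariables false
set_option Elab.async false

namespace Cfsg.Agent.Lib.Helper28.ON122760

open Cfsg.Spor.ON (Gen)
open Cfsg.Agent.Lib.Helper28.TC
open Cfsg.Agent.Lib.Helper28.TC2

theorem permP_blk512 : allRange (guard nn permP) 7 (512 * 2 ^ 7) = true := by decide +kernel
theorem permP_blk513 : allRange (guard nn permP) 7 (513 * 2 ^ 7) = true := by decide +kernel
theorem permP_blk514 : allRange (guard nn permP) 7 (514 * 2 ^ 7) = true := by decide +kernel
theorem permP_blk515 : allRange (guard nn permP) 7 (515 * 2 ^ 7) = true := by decide +kernel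
theorem permP_blk516 : allRange (guard nn permP) 7 (516 * 2 ^ 7) = true := by decide +kernel
theorem permP_blk517 : allRange (guard nn permP) 7 (517 * 2 ^ 7) = true := by decide +kernel
theorem permP_blk518 : allRange (guard nn permP) 7 (518 * 2 ^ 7) = true := by decide +kernel
theorem permP_blk519 : allRange (guard nn permP) 7 (519 * 2 ^ 7) = true := by decide +kernel
theorem permP_blk520 : allRange (guard nn permP) 7 (520 * 2 ^ 7) = true := by decide +kernel
theorem permP_blk521 : allRange (guard nn permP) 7 (521 * 2 ^ 7) = true := by decide +kernel
theorem permP_blk522 : allRange (guard nn permP) 7 (522 * 2 ^ 7) = true := by decide +kernel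
theorem permP_blk523 : allRange (guard nn permP) 7 (523 * 2 ^ 7) = true := by decide +kernel
theorem permP_blk524 : allRange (guard nn permP) 7 (524 * 2 ^ 7) = true := by decide +kernel
theorem permP_blk525 : allRange (guard nn permP) 7 (525 * 2 ^ 7) = true := by decide +kernel
theorem permP_blk526 : allRange (guard nn permP) 7 (526 * 2 ^ 7) = true := by decide +kernel
theorem permP_blk527 : allRange (guard nn permP) 7 (527 * 2 ^ 7) = true := by decide +kernel
theorem permP_blk528 : allRange (guard nn permP) 7 (528 * 2 ^ 7) = true := by decide +kernel
theorem permP_blk529 : allRange (guard nn permP) 7 (529 * 2 ^ 7) = true := by decide +kernel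
theorem permP_blk530 : allRange (guard nn permP) 7 (530 * 2 ^ 7) = true := by decide +kernel
theorem permP_blk531 : allRange (guard nn permP) 7 (531 * 2 ^ 7) = true := by decide +kernel
theorem permP_blk532 : allRange (guard nn permP) 7 (532 * 2 ^ 7) = true := by decide +kernel
theorem permP_blk533 : allRange (guard nn permP) 7 (533 * 2 ^ 7) = true := by decide +kernel
theorem permP_blk534 : allRange (guard nn permP) 7 (534 * 2 ^ 7) = true := by decide +kernel
theorem permP_blk535 : allRange (guard nn permP) 7 (535 * 2 ^ 7) = true := by decide +kernel
theorem permP_blk536 : allRange (guard nn permP) 7 (536 * 2 ^ 7) = true := by decide +kernel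
theorem permP_blk537 : allRange (guard nn permP) 7 (537 * 2 ^ 7) = true := by decide +kernel
theorem permP_blk538 : allRange (guard nn permP) 7 (538 * 2 ^ 7) = true := by decide +kernel
theorem permP_blk539 : allRange (guard nn permP) 7 (539 * 2 ^ 7) = true := by decide +kernel
theorem permP_blk540 : allRange (guard nn permP) 7 (540 * 2 ^ 7) = true := by decide +kernel
theorem permP_blk541 : allRange (guard nn permP) 7 (541 * 2 ^ 7) = true := by decide +kernel
theorem permP_blk542 : allRange (guard nn permP) 7 (542 * 2 ^ 7) = true := by decide +kernel
theorem permP_blk543 : allRange (guard nn permP) 7 (543 * 2 ^ 7) = true := by decide +kernel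
theorem permP_blk544 : allRange (guard nn permP) 7 (544 * 2 ^ 7) = true := by decide +kernel
theorem permP_blk545 : allRange (guard nn permP) 7 (545 * 2 ^ 7) = true := by decide +kernel
theorem permP_blk546 : allRange (guard nn permP) 7 (546 * 2 ^ 7) = true := by decide +kernel
theorem permP_blk547 : allRange (guard nn permP) 7 (547 * 2 ^ 7) = true := by decide +kernel
theorem permP_blk548 : allRange (guard nn permP) 7 (548 * 2 ^ 7) = true := by decide +kernel
theorem permP_blk549 : allRange (guard nn permP) 7 (549 * 2 ^ 7) = true := by decide +kernel
theorem permP_blk550 : allRange (guard nn permP) 7 (550 * 2 ^ 7) = true := by decide +kernel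
theorem permP_blk551 : allRange (guard nn permP) 7 (551 * 2 ^ 7) = true := by decide +kernel
theorem permP_blk552 : allRange (guard nn permP) 7 (552 * 2 ^ 7) = true := by decide +kernel
theorem permP_blk553 : allRange (guard nn permP) 7 (553 * 2 ^ 7) = true := by decide +kernel
theorem permP_blk554 : allRange (guard nn permP) 7 (554 * 2 ^ 7) = true := by decide +kernel
theorem permP_blk555 : allRange (guard nn permP) 7 (555 * 2 ^ 7) = true := by decide +kernel
theorem permP_blk556 : allRange (guard nn permP) 7 (556 * 2 ^ 7) = true := by decide +kernel
theorem permP_blk557 : allRange (guard nn permP) 7 (557 * 2 ^ 7) = true := by decide +kernel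
theorem permP_blk558 : allRange (guard nn permP) 7 (558 * 2 ^ 7) = true := by decide +kernel
theorem permP_blk559 : allRange (guard nn permP) 7 (559 * 2 ^ 7) = true := by decide +kernel
theorem permP_blk560 : allRange (guard nn permP) 7 (560 * 2 ^ 7) = true := by decide +kernel
theorem permP_blk561 : allRange (guard nn permP) 7 (561 * 2 ^ 7) = true := by decide +kernel
theorem permP_blk562 : allRange (guard nn permP) 7 (562 * 2 ^ 7) = true := by decide +kernel
theorem permP_blk563 : allRange (guard nn permP) 7 (563 * 2 ^ 7) = true := by decide +kernel
theorem permP_blk564 : allRange (guard nn permP) 7 (564 * 2 ^ 7) = true := by decide +kernel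
theorem permP_blk565 : allRange (guard nn permP) 7 (565 * 2 ^ 7) = true := by decide +kernel
theorem permP_blk566 : allRange (guard nn permP) 7 (566 * 2 ^ 7) = true := by decide +kernel
theorem permP_blk567 : allRange (guard nn permP) 7 (567 * 2 ^ 7) = true := by decide +kernel
theorem permP_blk568 : allRange (guard nn permP) 7 (568 * 2 ^ 7) = true := by decide +kernel
theorem permP_blk569 : allRange (guard nn permP) 7 (569 * 2 ^ 7) = true := by decide +kernel
theorem permP_blk570 : allRange (guard nn permP) 7 (570 * 2 ^ 7) = true := by decide +kernel
theorem permP_blk571 : allRange (guard nn permP) 7 (571 * 2 ^ 7) = true := by decide +kernel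
theorem permP_blk572 : allRange (guard nn permP) 7 (572 * 2 ^ 7) = true := by decide +kernel
theorem permP_blk573 : allRange (guard nn permP) 7 (573 * 2 ^ 7) = true := by decide +kernel
theorem permP_blk574 : allRange (guard nn permP) 7 (574 * 2 ^ 7) = true := by decide +kernel
theorem permP_blk575 : allRange (guard nn permP) 7 (575 * 2 ^ 7) = true := by decide +kernel
theorem permP_f8 : ∀ k, 512 ≤ k → k < 576 → allRange (guard nn permP) 7 (k * 2 ^ 7) = true := by
  intro k h1 h2
  interval_cases k
  · exact permP_blk512
  · exact permP_blk513
  · exact permP_blk514
  · exact permP_blk515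
  · exact permP_blk516
  · exact permP_blk517
  · exact permP_blk518
  · exact permP_blk519
  · exact permP_blk520
  · exact permP_blk521
  · exact permP_blk522
  · exact permP_blk523
  · exact permP_blk524
  · exact permP_blk525
  · exact permP_blk526
  · exact permP_blk527
  · exact permP_blk528
  · exact permP_blk529
  · exact permP_blk530
  · exact permP_blk531
  · exact permP_blk532
  · exact permP_blk533
  · exact permP_blk534
  · exact permP_blk535
  · exact permP_blk536
  · exact permP_blk537
  · exact permP_blk538
  · exact permP_blk539
  · exact permP_blk540
  · exact permP_blk541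
  · exact permP_blk542
  · exact permP_blk543
  · exact permP_blk544
  · exact permP_blk545
  · exact permP_blk546
  · exact permP_blk547
  · exact permP_blk548
  · exact permP_blk549
  · exact permP_blk550
  · exact permP_blk551
  · exact permP_blk552
  · exact permP_blk553
  · exact permP_blk554
  · exact permP_blk555
  · exact permP_blk556
  · exact permP_blk557
  · exact permP_blk558
  · exact permP_blk559
  · exact permP_blk560
  · exact permP_blk561
  · exact permP_blk562
  · exact permP_blk563
  · exact permP_blk564
  · exact permP_blk565
  · exact permP_blk566
  · exact permP_blk567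
  · exact permP_blk568
  · exact permP_blk569
  · exact permP_blk570
  · exact permP_blk571
  · exact permP_blk572
  · exact permP_blk573
  · exact permP_blk574
  · exact permP_blk575

end Cfsg.Agent.Lib.Helper28.ON122760
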