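import Cfsg.Agent.Lib.Helper28.ON122760.ChkP0
import Cfsg.Agent.Lib.Helper28.ON122760.ChkP1
import Cfsg.Agent.Lib.Helper28.ON122760.ChkP2
import Cfsg.Agent.Lib.Helper28.ON122760.ChkP3
import Cfsg.Agent.Lib.Helper28.ON122760.ChkP4
import Cfsg.Agent.Lib.Helper28.ON122760.ChkP5
import Cfsg.Agent.Lib.Helper28.ON122760.ChkP6
import Cfsg.Agent.Lib.Helper28.ON122760.ChkP7
import Cfsg.Agent.Lib.Helper28.ON122760.ChkP8
import Cfsg.Agent.Lib.Helper28.ON122760.ChkP9
import Cfsg.Agent.Lib.Helper28.ON122760.ChkP10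
import Cfsg.Agent.Lib.Helper28.ON122760.ChkP11
import Cfsg.Agent.Lib.Helper28.ON122760.ChkP12
import Cfsg.Agent.Lib.Helper28.ON122760.ChkP13
import Cfsg.Agent.Lib.Helper28.ON122760.ChkP14
import Cfsg.Agent.Lib.Helper28.ON122760.ChkF0
import Cfsg.Agent.Lib.Helper28.ON122760.ChkF1
import Cfsg.Agent.Lib.Helper28.ON122760.ChkF2
import Cfsg.Agent.Lib.Helper28.ON122760.ChkF3
import Cfsg.Agent.Lib.Helper28.ON122760.ChkF4
import Cfsg.Agent.Lib.Helper28.ON122760.ChkF5
import Cfsg.Agent.Lib.Helper28.ON122760.ChkF6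
import Cfsg.Agent.Lib.Helper28.ON122760.ChkF7
import Cfsg.Agent.Lib.Helper28.ON122760.ChkF8
import Cfsg.Agent.Lib.Helper28.ON122760.ChkF9
import Cfsg.Agent.Lib.Helper28.ON122760.ChkF10
import Cfsg.Agent.Lib.Helper28.ON122760.ChkF11
import Cfsg.Agent.Lib.Helper28.ON122760.ChkF12
import Cfsg.Agent.Lib.Helper28.ON122760.ChkF13
import Cfsg.Agent.Lib.Helper28.ON122760.ChkF14
import Cfsg.Agent.Lib.Helper28.ON122760.ChkF15
import Cfsg.Agent.Lib.Helper28.ON122760.ChkF16
import Cfsg.Agent.Lib.Helper28.ON122760.ChkF17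
import Cfsg.Agent.Lib.Helper28.ON122760.ChkF18
import Cfsg.Agent.Lib.Helper28.ON122760.ChkF19
import Cfsg.Agent.Lib.Helper28.ON122760.ChkF20
import Cfsg.Agent.Lib.Helper28.ON122760.ChkF21
import Cfsg.Agent.Lib.Helper28.ON122760.ChkF22
import Cfsg.Agent.Lib.Helper28.ON122760.ChkF23
import Cfsg.Agent.Lib.Helper28.ON122760.ChkF24
import Cfsg.Agent.Lib.Helper28.ON122760.ChkC0
import Cfsg.Agent.Lib.Helper28.ON122760.ChkC1
import Cfsg.Agent.Lib.Helper28.ON122760.ChkC2
import Cfsg.Agent.Lib.Helper28.ON122760.ChkC3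

set_option autoImplicit false
set_option linter.unusedVariables false

namespace Cfsg.Agent.Lib.Helper28.ON122760

open Cfsg.Spor.ON (Gen)
open Cfsg.Agent.Lib.Helper28.TC
open Cfsg.Agent.Lib.Helper28.TC2

def NNpad : ℕ := 197760
theorem permP_allk : ∀ k, k < 960 → allRange (guard nn permP) 7 (k * 2 ^ 7) = true := by
  intro k hk
  by_cases h0 : k < 64
  · exact permP_f0 k (by omega) h0
  by_cases h1 : k < 128
  · exact permP_f1 k (by omega) h1
  by_cases h2 : k < 192
  · exact permP_f2 k (by omega) h2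
  by_cases h3 : k < 256
  · exact permP_f3 k (by omega) h3
  by_cases h4 : k < 320
  · exact permP_f4 k (by omega) h4
  by_cases h5 : k < 384
  · exact permP_f5 k (by omega) h5
  by_cases h6 : k < 448
  · exact permP_f6 k (by omega) h6
  by_cases h7 : k < 512
  · exact permP_f7 k (by omega) h7
  by_cases h8 : k < 576
  · exact permP_f8 k (by omega) h8
  by_cases h9 : k < 640
  · exact permP_f9 k (by omega) h9
  by_cases h10 : k < 704
  · exact permP_f10 k (by omega) h10
  by_cases h11 : k < 768
  · exact permP_f11 k (by omega) h11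
  by_cases h12 : k < 832
  · exact permP_f12 k (by omega) h12
  by_cases h13 : k < 896
  · exact permP_f13 k (by omega) h13
  by_cases h14 : k < 960
  · exact permP_f14 k (by omega) h14
  omega
theorem permP_all : ∀ i, i < nn → permP i = true :=
  all_of_blocks nn permP 7 960 (by decide) permP_allk

theorem factP_allk : ∀ k, k < 1545 → allRange factP 7 (k * 2 ^ 7) = true := by
  intro k hk
  by_cases h0 : k < 64
  · exact factP_f0 k (by omega) h0
  by_cases h1 : k < 128
  · exact factP_f1 k (by omega) h1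
  by_cases h2 : k < 192
  · exact factP_f2 k (by omega) h2
  by_cases h3 : k < 256
  · exact factP_f3 k (by omega) h3
  by_cases h4 : k < 320
  · exact factP_f4 k (by omega) h4
  by_cases h5 : k < 384
  · exact factP_f5 k (by omega) h5
  by_cases h6 : k < 448
  · exact factP_f6 k (by omega) h6
  by_cases h7 : k < 512
  · exact factP_f7 k (by omega) h7
  by_cases h8 : k < 576
  · exact factP_f8 k (by omega) h8
  by_cases h9 : k < 640
  · exact factP_f9 k (by omega) h9
  by_cases h10 : k < 704
  · exact factP_f10 k (by omega) h10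
  by_cases h11 : k < 768
  · exact factP_f11 k (by omega) h11
  by_cases h12 : k < 832
  · exact factP_f12 k (by omega) h12
  by_cases h13 : k < 896
  · exact factP_f13 k (by omega) h13
  by_cases h14 : k < 960
  · exact factP_f14 k (by omega) h14
  by_cases h15 : k < 1024
  · exact factP_f15 k (by omega) h15
  by_cases h16 : k < 1088
  · exact factP_f16 k (by omega) h16
  by_cases h17 : k < 1152
  · exact factP_f17 k (by omega) h17
  by_cases h18 : k < 1216
  · exact factP_f18 k (by omega) h18
  by_cases h19 : k < 1280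
  · exact factP_f19 k (by omega) h19
  by_cases h20 : k < 1344
  · exact factP_f20 k (by omega) h20
  by_cases h21 : k < 1408
  · exact factP_f21 k (by omega) h21
  by_cases h22 : k < 1472
  · exact factP_f22 k (by omega) h22
  by_cases h23 : k < 1536
  · exact factP_f23 k (by omega) h23
  by_cases h24 : k < 1545
  · exact factP_f24 k (by omega) h24
  omega
theorem factP_all : ∀ i, i < NNpad → factP i = true :=
  allBlocks_spec factP 7 1545 factP_allk

theorem closedP_allk : ∀ k, k < 480 → allRange (guard nn closedP) 8 (k * 2 ^ 8) = true := by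
  intro k hk
  by_cases h0 : k < 128
  · exact closedP_f0 k (by omega) h0
  by_cases h1 : k < 256
  · exact closedP_f1 k (by omega) h1
  by_cases h2 : k < 384
  · exact closedP_f2 k (by omega) h2
  by_cases h3 : k < 480
  · exact closedP_f3 k (by omega) h3
  omega
theorem closedP_all : ∀ i, i < nn → closedP i = true :=
  all_of_blocks nn closedP 8 480 (by decide) closedP_allk

theorem subFix : ∀ e ∈ subE, act tf (evalW2 emb binv e) 0 = 0 := by decide +kernel

end Cfsg.Agent.Lib.Helper28.ON122760
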