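import Cfsg.Agent.Lib.Helper28.ON122760.Defs

set_option autoImplicit false
set_option linter.unusedVariables false
set_option Elab.async false

namespace Cfsg.Agent.Lib.Helper28.ON122760

open Cfsg.Spor.ON (Gen)
open Cfsg.Agent.Lib.Helper28.TC
open Cfsg.Agent.Lib.Helper28.TC2

theorem closedP_blk384 : allRange (guard nn closedP) 8 (384 * 2 ^ 8) = true := by decide +kernel
theorem closedP_blk385 : allRange (guard nn closedP) 8 (385 * 2 ^ 8) = true := by decide +kernel
theorem closedP_blk386 : allRange (guard nn closedP) 8 (386 * 2 ^ 8) = true := by decide +kernel
theorem closedP_blk387 : allRange (guard nn closedP) 8 (387 * 2 ^ 8) = true := by decide +kernel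
theorem closedP_blk388 : allRange (guard nn closedP) 8 (388 * 2 ^ 8) = true := by decide +kernel
theorem closedP_blk389 : allRange (guard nn closedP) 8 (389 * 2 ^ 8) = true := by decide +kernel
theorem closedP_blk390 : allRange (guard nn closedP) 8 (390 * 2 ^ 8) = true := by decide +kernel
theorem closedP_blk391 : allRange (guard nn closedP) 8 (391 * 2 ^ 8) = true := by decide +kernel
theorem closedP_blk392 : allRange (guard nn closedP) 8 (392 * 2 ^ 8) = true := by decide +kernel
theorem closedP_blk393 : allRange (guard nn closedP) 8 (393 * 2 ^ 8) = true := by decide +kernel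
theorem closedP_blk394 : allRange (guard nn closedP) 8 (394 * 2 ^ 8) = true := by decide +kernel
theorem closedP_blk395 : allRange (guard nn closedP) 8 (395 * 2 ^ 8) = true := by decide +kernel
theorem closedP_blk396 : allRange (guard nn closedP) 8 (396 * 2 ^ 8) = true := by decide +kernel
theorem closedP_blk397 : allRange (guard nn closedP) 8 (397 * 2 ^ 8) = true := by decide +kernel
theorem closedP_blk398 : allRange (guard nn closedP) 8 (398 * 2 ^ 8) = true := by decide +kernel
theorem closedP_blk399 : allRange (guard nn closedP) 8 (399 * 2 ^ 8) = true := by decide +kernel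
theorem closedP_blk400 : allRange (guard nn closedP) 8 (400 * 2 ^ 8) = true := by decide +kernel
theorem closedP_blk401 : allRange (guard nn closedP) 8 (401 * 2 ^ 8) = true := by decide +kernel
theorem closedP_blk402 : allRange (guard nn closedP) 8 (402 * 2 ^ 8) = true := by decide +kernel
theorem closedP_blk403 : allRange (guard nn closedP) 8 (403 * 2 ^ 8) = true := by decide +kernel
theorem closedP_blk404 : allRange (guard nn closedP) 8 (404 * 2 ^ 8) = true := by decide +kernel
theorem closedP_blk405 : allRange (guard nn closedP) 8 (405 * 2 ^ 8) = true := by decide +kernel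
theorem closedP_blk406 : allRange (guard nn closedP) 8 (406 * 2 ^ 8) = true := by decide +kernel
theorem closedP_blk407 : allRange (guard nn closedP) 8 (407 * 2 ^ 8) = true := by decide +kernel
theorem closedP_blk408 : allRange (guard nn closedP) 8 (408 * 2 ^ 8) = true := by decide +kernel
theorem closedP_blk409 : allRange (guard nn closedP) 8 (409 * 2 ^ 8) = true := by decide +kernel
theorem closedP_blk410 : allRange (guard nn closedP) 8 (410 * 2 ^ 8) = true := by decide +kernel
theorem closedP_blk411 : allRange (guard nn closedP) 8 (411 * 2 ^ 8) = true := by decide +kernel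
theorem closedP_blk412 : allRange (guard nn closedP) 8 (412 * 2 ^ 8) = true := by decide +kernel
theorem closedP_blk413 : allRange (guard nn closedP) 8 (413 * 2 ^ 8) = true := by decide +kernel
theorem closedP_blk414 : allRange (guard nn closedP) 8 (414 * 2 ^ 8) = true := by decide +kernel
theorem closedP_blk415 : allRange (guard nn closedP) 8 (415 * 2 ^ 8) = true := by decide +kernel
theorem closedP_blk416 : allRange (guard nn closedP) 8 (416 * 2 ^ 8) = true := by decide +kernel
theorem closedP_blk417 : allRange (guard nn closedP) 8 (417 * 2 ^ 8) = true := by decide +kernel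
theorem closedP_blk418 : allRange (guard nn closedP) 8 (418 * 2 ^ 8) = true := by decide +kernel
theorem closedP_blk419 : allRange (guard nn closedP) 8 (419 * 2 ^ 8) = true := by decide +kernel
theorem closedP_blk420 : allRange (guard nn closedP) 8 (420 * 2 ^ 8) = true := by decide +kernel
theorem closedP_blk421 : allRange (guard nn closedP) 8 (421 * 2 ^ 8) = true := by decide +kernel
theorem closedP_blk422 : allRange (guard nn closedP) 8 (422 * 2 ^ 8) = true := by decide +kernel
theorem closedP_blk423 : allRange (guard nn closedP) 8 (423 * 2 ^ 8) = true := by decide +kernel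
theorem closedP_blk424 : allRange (guard nn closedP) 8 (424 * 2 ^ 8) = true := by decide +kernel
theorem closedP_blk425 : allRange (guard nn closedP) 8 (425 * 2 ^ 8) = true := by decide +kernel
theorem closedP_blk426 : allRange (guard nn closedP) 8 (426 * 2 ^ 8) = true := by decide +kernel
theorem closedP_blk427 : allRange (guard nn closedP) 8 (427 * 2 ^ 8) = true := by decide +kernel
theorem closedP_blk428 : allRange (guard nn closedP) 8 (428 * 2 ^ 8) = true := by decide +kernel
theorem closedP_blk429 : allRange (guard nn closedP) 8 (429 * 2 ^ 8) = true := by decide +kernel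
theorem closedP_blk430 : allRange (guard nn closedP) 8 (430 * 2 ^ 8) = true := by decide +kernel
theorem closedP_blk431 : allRange (guard nn closedP) 8 (431 * 2 ^ 8) = true := by decide +kernel
theorem closedP_blk432 : allRange (guard nn closedP) 8 (432 * 2 ^ 8) = true := by decide +kernel
theorem closedP_blk433 : allRange (guard nn closedP) 8 (433 * 2 ^ 8) = true := by decide +kernel
theorem closedP_blk434 : allRange (guard nn closedP) 8 (434 * 2 ^ 8) = true := by decide +kernel
theorem closedP_blk435 : allRange (guard nn closedP) 8 (435 * 2 ^ 8) = true := by decide +kernel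
theorem closedP_blk436 : allRange (guard nn closedP) 8 (436 * 2 ^ 8) = true := by decide +kernel
theorem closedP_blk437 : allRange (guard nn closedP) 8 (437 * 2 ^ 8) = true := by decide +kernel
theorem closedP_blk438 : allRange (guard nn closedP) 8 (438 * 2 ^ 8) = true := by decide +kernel
theorem closedP_blk439 : allRange (guard nn closedP) 8 (439 * 2 ^ 8) = true := by decide +kernel
theorem closedP_blk440 : allRange (guard nn closedP) 8 (440 * 2 ^ 8) = true := by decide +kernel
theorem closedP_blk441 : allRange (guard nn closedP) 8 (441 * 2 ^ 8) = true := by decide +kernel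
theorem closedP_blk442 : allRange (guard nn closedP) 8 (442 * 2 ^ 8) = true := by decide +kernel
theorem closedP_blk443 : allRange (guard nn closedP) 8 (443 * 2 ^ 8) = true := by decide +kernel
theorem closedP_blk444 : allRange (guard nn closedP) 8 (444 * 2 ^ 8) = true := by decide +kernel
theorem closedP_blk445 : allRange (guard nn closedP) 8 (445 * 2 ^ 8) = true := by decide +kernel
theorem closedP_blk446 : allRange (guard nn closedP) 8 (446 * 2 ^ 8) = true := by decide +kernel
theorem closedP_blk447 : allRange (guard nn closedP) 8 (447 * 2 ^ 8) = true := by decide +kernel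
theorem closedP_blk448 : allRange (guard nn closedP) 8 (448 * 2 ^ 8) = true := by decide +kernel
theorem closedP_blk449 : allRange (guard nn closedP) 8 (449 * 2 ^ 8) = true := by decide +kernel
theorem closedP_blk450 : allRange (guard nn closedP) 8 (450 * 2 ^ 8) = true := by decide +kernel
theorem closedP_blk451 : allRange (guard nn closedP) 8 (451 * 2 ^ 8) = true := by decide +kernel
theorem closedP_blk452 : allRange (guard nn closedP) 8 (452 * 2 ^ 8) = true := by decide +kernel
theorem closedP_blk453 : allRange (guard nn closedP) 8 (453 * 2 ^ 8) = true := by decide +kernel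
theorem closedP_blk454 : allRange (guard nn closedP) 8 (454 * 2 ^ 8) = true := by decide +kernel
theorem closedP_blk455 : allRange (guard nn closedP) 8 (455 * 2 ^ 8) = true := by decide +kernel
theorem closedP_blk456 : allRange (guard nn closedP) 8 (456 * 2 ^ 8) = true := by decide +kernel
theorem closedP_blk457 : allRange (guard nn closedP) 8 (457 * 2 ^ 8) = true := by decide +kernel
theorem closedP_blk458 : allRange (guard nn closedP) 8 (458 * 2 ^ 8) = true := by decide +kernel
theorem closedP_blk459 : allRange (guard nn closedP) 8 (459 * 2 ^ 8) = true := by decide +kernel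
theorem closedP_blk460 : allRange (guard nn closedP) 8 (460 * 2 ^ 8) = true := by decide +kernel
theorem closedP_blk461 : allRange (guard nn closedP) 8 (461 * 2 ^ 8) = true := by decide +kernel
theorem closedP_blk462 : allRange (guard nn closedP) 8 (462 * 2 ^ 8) = true := by decide +kernel
theorem closedP_blk463 : allRange (guard nn closedP) 8 (463 * 2 ^ 8) = true := by decide +kernel
theorem closedP_blk464 : allRange (guard nn closedP) 8 (464 * 2 ^ 8) = true := by decide +kernel
theorem closedP_blk465 : allRange (guard nn closedP) 8 (465 * 2 ^ 8) = true := by decide +kernel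
theorem closedP_blk466 : allRange (guard nn closedP) 8 (466 * 2 ^ 8) = true := by decide +kernel
theorem closedP_blk467 : allRange (guard nn closedP) 8 (467 * 2 ^ 8) = true := by decide +kernel
theorem closedP_blk468 : allRange (guard nn closedP) 8 (468 * 2 ^ 8) = true := by decide +kernel
theorem closedP_blk469 : allRange (guard nn closedP) 8 (469 * 2 ^ 8) = true := by decide +kernel
theorem closedP_blk470 : allRange (guard nn closedP) 8 (470 * 2 ^ 8) = true := by decide +kernel
theorem closedP_blk471 : allRange (guard nn closedP) 8 (471 * 2 ^ 8) = true := by decide +kernel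
theorem closedP_blk472 : allRange (guard nn closedP) 8 (472 * 2 ^ 8) = true := by decide +kernel
theorem closedP_blk473 : allRange (guard nn closedP) 8 (473 * 2 ^ 8) = true := by decide +kernel
theorem closedP_blk474 : allRange (guard nn closedP) 8 (474 * 2 ^ 8) = true := by decide +kernel
theorem closedP_blk475 : allRange (guard nn closedP) 8 (475 * 2 ^ 8) = true := by decide +kernel
theorem closedP_blk476 : allRange (guard nn closedP) 8 (476 * 2 ^ 8) = true := by decide +kernel
theorem closedP_blk477 : allRange (guard nn closedP) 8 (477 * 2 ^ 8) = true := by decide +kernel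
theorem closedP_blk478 : allRange (guard nn closedP) 8 (478 * 2 ^ 8) = true := by decide +kernel
theorem closedP_blk479 : allRange (guard nn closedP) 8 (479 * 2 ^ 8) = true := by decide +kernel
theorem closedP_f3 : ∀ k, 384 ≤ k → k < 480 → allRange (guard nn closedP) 8 (k * 2 ^ 8) = true := by
  intro k h1 h2
  interval_cases k
  · exact closedP_blk384
  · exact closedP_blk385
  · exact closedP_blk386
  · exact closedP_blk387
  · exact closedP_blk388
  · exact closedP_blk389
  · exact closedP_blk390
  · exact closedP_blk391
  · exact closedP_blk392
  · exact closedP_blk393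
  · exact closedP_blk394
  · exact closedP_blk395
  · exact closedP_blk396
  · exact closedP_blk397
  · exact closedP_blk398
  · exact closedP_blk399
  · exact closedP_blk400
  · exact closedP_blk401
  · exact closedP_blk402
  · exact closedP_blk403
  · exact closedP_blk404
  · exact closedP_blk405
  · exact closedP_blk406
  · exact closedP_blk407
  · exact closedP_blk408
  · exact closedP_blk409
  · exact closedP_blk410
  · exact closedP_blk411
  · exact closedP_blk412
  · exact closedP_blk413
  · exact closedP_blk414
  · exact closedP_blk415
  · exact closedP_blk416
  · exact closedP_blk417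
  · exact closedP_blk418
  · exact closedP_blk419
  · exact closedP_blk420
  · exact closedP_blk421
  · exact closedP_blk422
  · exact closedP_blk423
  · exact closedP_blk424
  · exact closedP_blk425
  · exact closedP_blk426
  · exact closedP_blk427
  · exact closedP_blk428
  · exact closedP_blk429
  · exact closedP_blk430
  · exact closedP_blk431
  · exact closedP_blk432
  · exact closedP_blk433
  · exact closedP_blk434
  · exact closedP_blk435
  · exact closedP_blk436
  · exact closedP_blk437
  · exact closedP_blk438
  · exact closedP_blk439
  · exact closedP_blk440
  · exact closedP_blk441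
  · exact closedP_blk442
  · exact closedP_blk443
  · exact closedP_blk444
  · exact closedP_blk445
  · exact closedP_blk446
  · exact closedP_blk447
  · exact closedP_blk448
  · exact closedP_blk449
  · exact closedP_blk450
  · exact closedP_blk451
  · exact closedP_blk452
  · exact closedP_blk453
  · exact closedP_blk454
  · exact closedP_blk455
  · exact closedP_blk456
  · exact closedP_blk457
  · exact closedP_blk458
  · exact closedP_blk459
  · exact closedP_blk460
  · exact closedP_blk461
  · exact closedP_blk462
  · exact closedP_blk463
  · exact closedP_blk464
  · exact closedP_blk465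
  · exact closedP_blk466
  · exact closedP_blk467
  · exact closedP_blk468
  · exact closedP_blk469
  · exact closedP_blk470
  · exact closedP_blk471
  · exact closedP_blk472
  · exact closedP_blk473
  · exact closedP_blk474
  · exact closedP_blk475
  · exact closedP_blk476
  · exact closedP_blk477
  · exact closedP_blk478
  · exact closedP_blk479

end Cfsg.Agent.Lib.Helper28.ON122760
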