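import Cfsg.Agent.Lib.Helper28.ON122760.DataE0
import Cfsg.Agent.Lib.Helper28.ON122760.DataE1
import Cfsg.Agent.Lib.Helper28.ON122760.DataE2
import Cfsg.Agent.Lib.Helper28.ON122760.DataE3
import Cfsg.Agent.Lib.Helper28.ON122760.DataE4
import Cfsg.Agent.Lib.Helper28.ON122760.DataE5
import Cfsg.Agent.Lib.Helper28.ON122760.DataE6
import Cfsg.Agent.Lib.Helper28.ON122760.DataE7
import Cfsg.Agent.Lib.Helper28.ON122760.DataA

set_option autoImplicit false
set_option linter.unusedVariables false

namespace Cfsg.Agent.Lib.Helper28.ON122760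

open Cfsg.Spor.ON (Gen)
open Cfsg.Agent.Lib.Helper28.TC
open Cfsg.Agent.Lib.Helper28.TC2

/-- the letters: generators and the formal inverse of the generator of order four -/
abbrev Ltr : Type := Option Gen

/-- a generator as a letter -/
def emb (x : Gen) : Ltr := some x

/-- formal inversion of letters -/
noncomputable def binv (y : Ltr) : Ltr := Option.rec (motive := fun _ => Ltr) (some Gen.g) (fun x => Gen.rec (motive := fun _ => Ltr) none (some Gen.a) (some Gen.b) (some Gen.c) (some Gen.d) (some Gen.e) (some Gen.f) x) y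

/-- all letters -/
def letters : List Ltr := [(some Gen.g), (some Gen.a), (some Gen.b), (some Gen.c), (some Gen.d), (some Gen.e), (some Gen.f), none]

/-- decode a letter -/
noncomputable def ltrOf (c : ℕ) : Ltr := Nat.rec (motive := fun _ => Ltr) (some Gen.g) (fun c _ => Nat.rec (motive := fun _ => Ltr) (some Gen.a) (fun c _ => Nat.rec (motive := fun _ => Ltr) (some Gen.b) (fun c _ => Nat.rec (motive := fun _ => Ltr) (some Gen.c) (fun c _ => Nat.rec (motive := fun _ => Ltr) (some Gen.d) (fun c _ => Nat.rec (motive := fun _ => Ltr) (some Gen.e) (fun c _ => Nat.rec (motive := fun _ => Ltr) (some Gen.f) (fun c _ => none) c) c) c) c) c) c) c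

noncomputable def entH (y : Ltr) (u : ℕ) : ℕ := Option.rec (motive := fun _ => ℕ) (hotE7 u) (fun x => Gen.rec (motive := fun _ => ℕ) (hotE0 u) (hotE1 u) (hotE2 u) (hotE3 u) (hotE4 u) (hotE5 u) (hotE6 u) x) y
noncomputable def jEc (y : Ltr) (u : ℕ) : ℕ := Option.rec (motive := fun _ => ℕ) (coldE7 u) (fun x => Gen.rec (motive := fun _ => ℕ) (coldE0 u) (coldE1 u) (coldE2 u) (coldE3 u) (coldE4 u) (coldE5 u) (coldE6 u) x) y
noncomputable def alH (k : ℕ) : ℕ := hotA k
noncomputable def jAc (k : ℕ) : ℕ := coldA k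
noncomputable def treeE (k : ℕ) : ℕ := treeT k
/-- the final coset table -/
noncomputable def tf (y : Ltr) (i : ℕ) : ℕ := Option.rec (motive := fun _ => ℕ) (tfT7 i) (fun x => Gen.rec (motive := fun _ => ℕ) (tfT0 i) (tfT1 i) (tfT2 i) (tfT3 i) (tfT4 i) (tfT5 i) (tfT6 i) x) y
/-- the final coset number of a row -/
noncomputable def fin (k : ℕ) : ℕ := Nat.shiftRight (treeE k) 22
/-- the designated row of a final coset -/
noncomputable def rowOf (i : ℕ) : ℕ := rowT i

/-- tables of the words that occur with a high power in a relator -/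
noncomputable def tau (k i : ℕ) : ℕ := Nat.rec (motive := fun _ => ℕ) (tauT0 i) (fun k _ => tauT1 i) k

/-- a cycle: word, reversed word, letterwise inverted word, length -/
abbrev CycT : Type := List Ltr × List Ltr × List Ltr × ℕ

/-- trees of cycles -/
inductive CT : Type
  | leaf (v : CycT)
  | node (s : ℕ) (l r : CT)

noncomputable def CT.get (t : CT) (i : ℕ) : CycT :=
  CT.rec (motive := fun _ => ℕ → CycT) (fun v _ => v)
    (fun s _ _ ihl ihr i => Nat.rec (motive := fun _ => CycT) (ihl i) (fun d _ => ihr d) (Nat.sub i s)) t i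

/-- the cycles: relators first, then subgroup generators -/
noncomputable def cycTree : CT := (CT.node 13
  (CT.node 6
  (CT.node 3
  (CT.node 1
  (CT.node 0
  (CT.leaf ([(some Gen.a), (some Gen.b), (some Gen.a), (some Gen.b), (some Gen.a), (some Gen.b)], [(some Gen.b), (some Gen.a), (some Gen.b), (some Gen.a), (some Gen.b), (some Gen.a)], [(some Gen.a), (some Gen.b), (some Gen.a), (some Gen.b), (some Gen.a), (some Gen.b)], 6))
  (CT.leaf ([(some Gen.a), (some Gen.c), (some Gen.a), (some Gen.c)], [(some Gen.c), (some Gen.a), (some Gen.c), (some Gen.a)], [(some Gen.a), (some Gen.c), (some Gen.a), (some Gen.c)], 4)))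
  (CT.node 0
  (CT.leaf ([(some Gen.a), (some Gen.d), (some Gen.a), (some Gen.d)], [(some Gen.d), (some Gen.a), (some Gen.d), (some Gen.a)], [(some Gen.a), (some Gen.d), (some Gen.a), (some Gen.d)], 4))
  (CT.leaf ([(some Gen.a), (some Gen.e), (some Gen.a), (some Gen.e)], [(some Gen.e), (some Gen.a), (some Gen.e), (some Gen.a)], [(some Gen.a), (some Gen.e), (some Gen.a), (some Gen.e)], 4))))
  (CT.node 1
  (CT.node 0
  (CT.leaf ([(some Gen.a), (some Gen.f), (some Gen.a), (some Gen.f)], [(some Gen.f), (some Gen.a), (some Gen.f), (some Gen.a)], [(some Gen.a), (some Gen.f), (some Gen.a), (some Gen.f)], 4))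
  (CT.leaf ([(some Gen.b), (some Gen.c), (some Gen.b), (some Gen.c), (some Gen.b), (some Gen.c)], [(some Gen.c), (some Gen.b), (some Gen.c), (some Gen.b), (some Gen.c), (some Gen.b)], [(some Gen.b), (some Gen.c), (some Gen.b), (some Gen.c), (some Gen.b), (some Gen.c)], 6)))
  (CT.leaf ([(some Gen.b), (some Gen.d), (some Gen.b), (some Gen.d)], [(some Gen.d), (some Gen.b), (some Gen.d), (some Gen.b)], [(some Gen.b), (some Gen.d), (some Gen.b), (some Gen.d)], 4))))
  (CT.node 3
  (CT.node 1
  (CT.node 0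
  (CT.leaf ([(some Gen.b), (some Gen.e), (some Gen.b), (some Gen.e)], [(some Gen.e), (some Gen.b), (some Gen.e), (some Gen.b)], [(some Gen.b), (some Gen.e), (some Gen.b), (some Gen.e)], 4))
  (CT.leaf ([(some Gen.b), (some Gen.f), (some Gen.b), (some Gen.f)], [(some Gen.f), (some Gen.b), (some Gen.f), (some Gen.b)], [(some Gen.b), (some Gen.f), (some Gen.b), (some Gen.f)], 4)))
  (CT.node 0
  (CT.leaf ([(some Gen.c), (some Gen.d), (some Gen.c), (some Gen.d), (some Gen.c), (some Gen.d), (some Gen.c), (some Gen.d), (some Gen.c), (some Gen.d), (some Gen.c), (some Gen.d), (some Gen.c), (some Gen.d), (some Gen.c), (some Gen.d)], [(some Gen.d), (some Gen.c), (some Gen.d), (some Gen.c), (some Gen.d), (some Gen.c), (some Gen.d), (some Gen.c), (some Gen.d), (some Gen.c), (some Gen.d), (some Gen.c), (some Gen.d), (some Gen.c), (some Gen.d), (some Gen.c)], [(some Gen.c), (some Gen.d), (some Gen.c), (some Gen.d), (some Gen.c), (some Gen.d), (some Gen.c), (some Gen.d), (some Gen.c), (some Gen.d), (some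 Gen.c), (some Gen.d), (some Gen.c), (some Gen.d), (some Gen.c), (some Gen.d)], 16))
  (CT.leaf ([(some Gen.c), (some Gen.e), (some Gen.c), (some Gen.e)], [(some Gen.e), (some Gen.c), (some Gen.e), (some Gen.c)], [(some Gen.c), (some Gen.e), (some Gen.c), (some Gen.e)], 4))))
  (CT.node 1
  (CT.node 0
  (CT.leaf ([(some Gen.c), (some Gen.f), (some Gen.c), (some Gen.f)], [(some Gen.f), (some Gen.c), (some Gen.f), (some Gen.c)], [(some Gen.c), (some Gen.f), (some Gen.c), (some Gen.f)], 4))
  (CT.leaf ([(some Gen.d), (some Gen.e), (some Gen.d), (some Gen.e), (some Gen.d), (some Gen.e)], [(some Gen.e), (some Gen.d), (some Gen.e), (some Gen.d), (some Gen.e), (some Gen.d)], [(some Gen.d), (some Gen.e), (some Gen.d), (some Gen.e), (some Gen.d), (some Gen.e)], 6)))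
  (CT.leaf ([(some Gen.d), (some Gen.f), (some Gen.d), (some Gen.f)], [(some Gen.f), (some Gen.d), (some Gen.f), (some Gen.d)], [(some Gen.d), (some Gen.f), (some Gen.d), (some Gen.f)], 4)))))
  (CT.node 6
  (CT.node 3
  (CT.node 1
  (CT.node 0
  (CT.leaf ([(some Gen.e), (some Gen.f), (some Gen.e), (some Gen.f), (some Gen.e), (some Gen.f)], [(some Gen.f), (some Gen.e), (some Gen.f), (some Gen.e), (some Gen.f), (some Gen.e)], [(some Gen.e), (some Gen.f), (some Gen.e), (some Gen.f), (some Gen.e), (some Gen.f)], 6))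
  (CT.leaf ([(some Gen.a), (some Gen.f), none, none], [none, none, (some Gen.f), (some Gen.a)], [(some Gen.a), (some Gen.f), (some Gen.g), (some Gen.g)], 4)))
  (CT.node 0
  (CT.leaf ([(some Gen.a), (some Gen.f), (some Gen.d), (some Gen.c), (some Gen.d), (some Gen.c), (some Gen.d), (some Gen.c), (some Gen.d), (some Gen.c)], [(some Gen.c), (some Gen.d), (some Gen.c), (some Gen.d), (some Gen.c), (some Gen.d), (some Gen.c), (some Gen.d), (some Gen.f), (some Gen.a)], [(some Gen.a), (some Gen.f), (some Gen.d), (some Gen.c), (some Gen.d), (some Gen.c), (some Gen.d), (some Gen.c), (some Gen.d), (some Gen.c)], 10))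
  (CT.leaf ([(some Gen.c), none, (some Gen.d), none, (some Gen.d), (some Gen.c), (some Gen.d), (some Gen.g), (some Gen.d), (some Gen.g)], [(some Gen.g), (some Gen.d), (some Gen.g), (some Gen.d), (some Gen.c), (some Gen.d), none, (some Gen.d), none, (some Gen.c)], [(some Gen.c), (some Gen.g), (some Gen.d), (some Gen.g), (some Gen.d), (some Gen.c), (some Gen.d), none, (some Gen.d), none], 10))))
  (CT.node 1
  (CT.node 0
  (CT.leaf ([(some Gen.d), none, (some Gen.c), none, (some Gen.c), (some Gen.d), (some Gen.c), (some Gen.g), (some Gen.c), (some Gen.g)], [(some Gen.g), (some Gen.c), (some Gen.g), (some Gen.c), (some Gen.d), (some Gen.c), none, (some Gen.c), none, (some Gen.d)], [(some Gen.d), (some Gen.g), (some Gen.c), (some Gen.g), (some Gen.c), (some Gen.d), (some Gen.c), none, (some Gen.c), none], 10))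
  (CT.leaf ([(some Gen.b), (some Gen.c), (some Gen.d), (some Gen.g), (some Gen.b), (some Gen.c), (some Gen.d), (some Gen.g), (some Gen.b), (some Gen.c), (some Gen.d), (some Gen.g), (some Gen.b), (some Gen.c), (some Gen.d), (some Gen.g), (some Gen.b), (some Gen.c), (some Gen.d), (some Gen.g)], [(some Gen.g), (some Gen.d), (some Gen.c), (some Gen.b), (some Gen.g), (some Gen.d), (some Gen.c), (some Gen.b), (some Gen.g), (some Gen.d), (some Gen.c), (some Gen.b), (some Gen.g), (some Gen.d), (some Gen.c), (some Gen.b), (some Gen.g), (some Gen.d), (some Gen.c), (some Gen.b)], [(some Gen.b), (some Gen.c), (some Gen.d), none, (some Gen.b), (some Gen.c), (some Gen.d), none, (some Gen.b), (some Gen.c), (some Gen.d), none, (some Gen.b), (some Gen.c), (some Gen.d), none, (some Gen.b), (some Gen.c), (some Gen.d), none], 20)))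
  (CT.leaf ([(some Gen.g), (some Gen.b), (some Gen.c), (some Gen.g), (some Gen.c), (some Gen.b), (some Gen.g), (some Gen.b), (some Gen.c), (some Gen.g), (some Gen.c)], [(some Gen.c), (some Gen.g), (some Gen.c), (some Gen.b), (some Gen.g), (some Gen.b), (some Gen.c), (some Gen.g), (some Gen.c), (some Gen.b), (some Gen.g)], [none, (some Gen.b), (some Gen.c), none, (some Gen.c), (some Gen.b), none, (some Gen.b), (some Gen.c), none, (some Gen.c)], 11))))
  (CT.node 3
  (CT.node 1
  (CT.node 0
  (CT.leaf ([(some Gen.g), (some Gen.e), (some Gen.d), (some Gen.g), (some Gen.d), (some Gen.e), (some Gen.g), (some Gen.e), (some Gen.d), (some Gen.g), (some Gen.d)], [(some Gen.d), (some Gen.g), (some Gen.d), (some Gen.e), (some Gen.g), (some Gen.e), (some Gen.d), (some Gen.g), (some Gen.d), (some Gen.e), (some Gen.g)], [none, (some Gen.e), (some Gen.d), none, (some Gen.d), (some Gen.e), none, (some Gen.e), (some Gen.d), none, (some Gen.d)], 11))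
  (CT.leaf ([(some Gen.a)], [(some Gen.a)], [(some Gen.a)], 1)))
  (CT.node 0
  (CT.leaf ([(some Gen.b)], [(some Gen.b)], [(some Gen.b)], 1))
  (CT.leaf ([(some Gen.c)], [(some Gen.c)], [(some Gen.c)], 1))))
  (CT.node 1
  (CT.node 0
  (CT.leaf ([(some Gen.d)], [(some Gen.d)], [(some Gen.d)], 1))
  (CT.leaf ([(some Gen.e)], [(some Gen.e)], [(some Gen.e)], 1)))
  (CT.leaf ([(some Gen.f)], [(some Gen.f)], [(some Gen.f)], 1))))))

def ncyc : ℕ := 28
def nRel : ℕ := 22

/-- cycle number `ci` (empty beyond the last) -/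
noncomputable def cycAt (ci : ℕ) : CycT := Bool.rec (motive := fun _ => CycT) ([], [], [], 0) (cycTree.get ci) (nlt ci ncyc)

/-- letterwise inverted cycle words -/
noncomputable def cycI (ci : ℕ) : List Ltr := (cycAt ci).2.2.1

/-- the Coxeter pairs, one order each, with their labels -/
def coxItems : List (Gen × Gen × ℕ) := [
  (Gen.a, Gen.b, 3),
  (Gen.a, Gen.c, 2),
  (Gen.a, Gen.d, 2),
  (Gen.a, Gen.e, 2),
  (Gen.a, Gen.f, 2),
  (Gen.b, Gen.c, 3),
  (Gen.b, Gen.d, 2),
  (Gen.b, Gen.e, 2),
  (Gen.b, Gen.f, 2),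
  (Gen.c, Gen.d, 8),
  (Gen.c, Gen.e, 2),
  (Gen.c, Gen.f, 2),
  (Gen.d, Gen.e, 3),
  (Gen.d, Gen.f, 2),
  (Gen.e, Gen.f, 3)]

/-- the Coxeter pairs as letters with the relator words -/
def coxPairs : List (Ltr × Ltr × List Ltr) := [
  ((some Gen.a), (some Gen.b), [(some Gen.a), (some Gen.b), (some Gen.a), (some Gen.b), (some Gen.a), (some Gen.b)]),
  ((some Gen.a), (some Gen.c), [(some Gen.a), (some Gen.c), (some Gen.a), (some Gen.c)]),
  ((some Gen.a), (some Gen.d), [(some Gen.a), (some Gen.d), (some Gen.a), (some Gen.d)]),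
  ((some Gen.a), (some Gen.e), [(some Gen.a), (some Gen.e), (some Gen.a), (some Gen.e)]),
  ((some Gen.a), (some Gen.f), [(some Gen.a), (some Gen.f), (some Gen.a), (some Gen.f)]),
  ((some Gen.b), (some Gen.c), [(some Gen.b), (some Gen.c), (some Gen.b), (some Gen.c), (some Gen.b), (some Gen.c)]),
  ((some Gen.b), (some Gen.d), [(some Gen.b), (some Gen.d), (some Gen.b), (some Gen.d)]),
  ((some Gen.b), (some Gen.e), [(some Gen.b), (some Gen.e), (some Gen.b), (some Gen.e)]),
  ((some Gen.b), (some Gen.f), [(some Gen.b), (some Gen.f), (some Gen.b), (some Gen.f)]),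
  ((some Gen.c), (some Gen.d), [(some Gen.c), (some Gen.d), (some Gen.c), (some Gen.d), (some Gen.c), (some Gen.d), (some Gen.c), (some Gen.d), (some Gen.c), (some Gen.d), (some Gen.c), (some Gen.d), (some Gen.c), (some Gen.d), (some Gen.c), (some Gen.d)]),
  ((some Gen.c), (some Gen.e), [(some Gen.c), (some Gen.e), (some Gen.c), (some Gen.e)]),
  ((some Gen.c), (some Gen.f), [(some Gen.c), (some Gen.f), (some Gen.c), (some Gen.f)]),
  ((some Gen.d), (some Gen.e), [(some Gen.d), (some Gen.e), (some Gen.d), (some Gen.e), (some Gen.d), (some Gen.e)]),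
  ((some Gen.d), (some Gen.f), [(some Gen.d), (some Gen.f), (some Gen.d), (some Gen.f)]),
  ((some Gen.e), (some Gen.f), [(some Gen.e), (some Gen.f), (some Gen.e), (some Gen.f), (some Gen.e), (some Gen.f)])]

/-- relators checked by the power method: (table, prefix, base word, suffix, exponent) -/
def powItems : List (ℕ × List Ltr × List Ltr × List Ltr × ℕ) := [
  (0, [(some Gen.a), (some Gen.f)], [(some Gen.d), (some Gen.c)], [], 4),
  (1, [], [(some Gen.b), (some Gen.c), (some Gen.d), (some Gen.g)], [], 5)]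

/-- relators checked letter by letter -/
def plainWords : List (List Ltr) := [
  [(some Gen.a), (some Gen.f), none, none],
  [(some Gen.c), none, (some Gen.d), none, (some Gen.d), (some Gen.c), (some Gen.d), (some Gen.g), (some Gen.d), (some Gen.g)],
  [(some Gen.d), none, (some Gen.c), none, (some Gen.c), (some Gen.d), (some Gen.c), (some Gen.g), (some Gen.c), (some Gen.g)],
  [(some Gen.g), (some Gen.b), (some Gen.c), (some Gen.g), (some Gen.c), (some Gen.b), (some Gen.g), (some Gen.b), (some Gen.c), (some Gen.g), (some Gen.c)],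
  [(some Gen.g), (some Gen.e), (some Gen.d), (some Gen.g), (some Gen.d), (some Gen.e), (some Gen.g), (some Gen.e), (some Gen.d), (some Gen.g), (some Gen.d)]]

/-- expressions of the further relators -/
def extraE : List (WE Gen) := [
  (WE.mul (WE.mul (WE.of Gen.a) (WE.of Gen.f)) (WE.inv (WE.pow (WE.of Gen.g) 2))),
  (WE.mul (WE.mul (WE.of Gen.a) (WE.of Gen.f)) (WE.inv (WE.pow (WE.mul (WE.of Gen.c) (WE.of Gen.d)) 4))),
  (WE.mul (WE.of Gen.c) (WE.mul (WE.mul (WE.inv (WE.mul (WE.mul (WE.mul (WE.of Gen.d) (WE.of Gen.g)) (WE.of Gen.d)) (WE.of Gen.g))) (WE.of Gen.c)) (WE.mul (WE.mul (WE.mul (WE.of Gen.d) (WE.of Gen.g)) (WE.of Gen.d)) (WE.of Gen.g)))),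
  (WE.mul (WE.of Gen.d) (WE.mul (WE.mul (WE.inv (WE.mul (WE.mul (WE.mul (WE.of Gen.c) (WE.of Gen.g)) (WE.of Gen.c)) (WE.of Gen.g))) (WE.of Gen.d)) (WE.mul (WE.mul (WE.mul (WE.of Gen.c) (WE.of Gen.g)) (WE.of Gen.c)) (WE.of Gen.g)))),
  (WE.pow (WE.mul (WE.mul (WE.mul (WE.of Gen.b) (WE.of Gen.c)) (WE.of Gen.d)) (WE.of Gen.g)) 5),
  (WE.mul (WE.mul (WE.mul (WE.mul (WE.of Gen.g) (WE.of Gen.b)) (WE.mul (WE.mul (WE.inv (WE.of Gen.c)) (WE.of Gen.g)) (WE.of Gen.c))) (WE.mul (WE.mul (WE.inv (WE.of Gen.b)) (WE.of Gen.g)) (WE.of Gen.b))) (WE.mul (WE.mul (WE.inv (WE.of Gen.c)) (WE.of Gen.g)) (WE.of Gen.c))),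
  (WE.mul (WE.mul (WE.mul (WE.mul (WE.of Gen.g) (WE.of Gen.e)) (WE.mul (WE.mul (WE.inv (WE.of Gen.d)) (WE.of Gen.g)) (WE.of Gen.d))) (WE.mul (WE.mul (WE.inv (WE.of Gen.e)) (WE.of Gen.g)) (WE.of Gen.e))) (WE.mul (WE.mul (WE.inv (WE.of Gen.d)) (WE.of Gen.g)) (WE.of Gen.d)))]

/-- expressions of the relators used as cycles -/
def relE : List (WE Gen) :=
  coxItems.map (fun it => WE.pow (WE.mul (WE.of it.1) (WE.of it.2.1)) it.2.2) ++ extraE

/-- expressions of the subgroup generators -/
def subE : List (WE Gen) := [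
  (WE.of Gen.a),
  (WE.of Gen.b),
  (WE.of Gen.c),
  (WE.of Gen.d),
  (WE.of Gen.e),
  (WE.of Gen.f)]

def NN : ℕ := 197672
def nn : ℕ := 122760
def RR : ℕ := 1251170

/-- the certificate -/
noncomputable def C : Cert Ltr where
  par := fun k => Nat.land (treeE k) 262143
  gn := fun k => ltrOf (Nat.land (Nat.shiftRight (treeE k) 18) 15)
  ent := fun x u => below NN u (Nat.land (entH x u) 262143)
  rkE := fun x u => Nat.shiftRight (entH x u) 18
  jEk := fun x u => Nat.land (jEc x u) 3
  jEa := fun x u => Nat.land (Nat.shiftRight (jEc x u) 2) 262143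
  jEp := fun x u => Nat.land (Nat.shiftRight (jEc x u) 20) 255
  jEz := fun x u => Nat.shiftRight (jEc x u) 28
  al := fun k => below NN k (Nat.land (alH k) 262143)
  rkA := fun k => Nat.shiftRight (alH k) 18
  jAx := fun k => ltrOf (Nat.land (jAc k) 15)
  jA1k := fun k => Nat.land (Nat.shiftRight (jAc k) 4) 3
  jA1a := fun k => Nat.land (Nat.shiftRight (jAc k) 6) 262143
  jA1p := fun k => Nat.land (Nat.shiftRight (jAc k) 24) 255
  jA1z := fun k => Nat.land (Nat.shiftRight (jAc k) 32) 262143
  jA2k := fun k => Nat.land (Nat.shiftRight (jAc k) 50) 3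
  jA2a := fun k => Nat.land (Nat.shiftRight (jAc k) 52) 262143
  jA2p := fun k => Nat.land (Nat.shiftRight (jAc k) 70) 255
  jA2z := fun k => Nat.land (Nat.shiftRight (jAc k) 78) 262143
  cycW := fun ci => (cycAt ci).1
  cycR := fun ci => (cycAt ci).2.1
  cycL := fun ci => (cycAt ci).2.2.2
  cycA := fun ci => Nat.ble nRel ci
  fuel := 6

/-- row check of the permutation representation -/
noncomputable def permP (i : ℕ) : Bool :=
  band (permRowOK2 tf binv nn letters i) (band (coxRowOK tf coxPairs i)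
    (band (powRowsOK tf tau powItems i) (relRowOK tf plainWords i)))
/-- row check of the facts -/
noncomputable def factP (u : ℕ) : Bool :=
  band (allList (fun x => checkE2 C binv cycI x u) letters)
    (band (checkA' C binv cycI u) (guard NN (treeRowOK C tf fin) u))
/-- row check of the closure -/
noncomputable def closedP (i : ℕ) : Bool := closedRowOK C tf fin rowOf NN RR letters i

end Cfsg.Agent.Lib.Helper28.ON122760
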